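import Cfsg.Agent.Lib.BPStar.Parts
import Cfsg.Agent.Lib.BrauerPairs.Inside

/-!
# Lifted values and block parts inside a subgroup
-/

set_option autoImplicit false
set_option linter.unusedSectionVars false

namespace CfsgLib.HomoTwo

open Cfsg MonoidAlgebra CfsgLib.Blocks CfsgLib.BrauerPairs CfsgLib.BPStar CfsgLib.Characters
open scoped Classical

universe u

variable {p : ℕ} [Fact p.Prime] {M : Ideal AlgInt} [M.IsMaximal]
variable {G : Type u} [Group G] [Fintype G]
variable {H : Subgroup G} [Fintype H]

/-- The embedding over the local integers. -/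
noncomputable def inclR (hM : IsPModular p M) (H : Subgroup G) :
    MonoidAlgebra (lRing hM) H →+* MonoidAlgebra (lRing hM) G :=
  MonoidAlgebra.mapDomainRingHom (lRing hM) H.subtype

theorem inclR_single (hM : IsPModular p M) (x : H) (r : lRing hM) :
    inclR hM H (single x r) = single (x : G) r := by
  simp [inclR]

/-- The value of a character at a lift inside a subgroup. -/
theorem liftVal_inclA (hM : IsPModular p M) {χ : G → ℂ} (hχ : IsCharacter G χ) {h u : H}
    (hu : IsPPart p h u) {a : MonoidAlgebra (ResK M) H} (ha : IsIdempotentElem a)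
    (hac : Commute (single h 1) a) :
    liftVal hM χ (h : G) (inclA (ResK M) H a) =
      liftVal hM (fun x : H => χ x) h a := by
  obtain ⟨E, hE, hEr, hEc⟩ := exists_idem_lift hM ha
  have hEh := hEc h hac
  have hres : IsCharacter H (fun x : H => χ x) := CharGalois.isCharacter_comp hχ H.subtype
  have hu' : IsPPart p (h : G) (u : G) := by
    obtain ⟨y, hy, hc, hk, hy'⟩ := hu
    exact ⟨y, congrArg Subtype.val hy, hc.map H.subtype,
      hk.imp fun k hk => by rw [Subgroup.orderOf_coe]; exact hk,
      by rwa [Subgroup.orderOf_coe]⟩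
  have hs : inclA (ResK M) H (single h (1 : ResK M)) = single (h : G) 1 :=
    MonoidAlgebra.mapDomain_single
  have hac' : Commute (single (h : G) (1 : ResK M)) (inclA (ResK M) H a) :=
    hs ▸ hac.map (inclA (ResK M) H)
  rw [liftVal_eq hM hχ hu' (ha.map _) hac' (E := inclR hM H E) (hE.map _)
    (by rw [← inclR_single]; exact hEh.map _) fun x _ => ?_,
    liftVal_eq hM hres hu ha hac hE hEh fun x _ => by rw [hEr]]
  · rw [← inclR_single, ← map_mul]
    generalize single h (1 : lRing hM) * E = y
    induction y using MonoidAlgebra.induction_linear with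
    | zero => simp [trR_zero]
    | add a b ha hb => rw [map_add, trR_add, trR_add, ha, hb]
    | single x r => rw [inclR_single, trR, trR, inc_single, inc_single, trC_single, trC_single]
  · rw [← hEr, coeff_red]
    by_cases hx : x ∈ H
    · rw [show x = ((⟨x, hx⟩ : H) : G) from rfl, coeff_inclA, coeff_red]
      congr 1
      exact Finsupp.mapDomain_apply Subtype.val_injective E.coeff ⟨x, hx⟩
    · rw [coeff_inclA_of_notMem _ hx]
      rw [show (inclR hM H E).coeff x = 0 from Finsupp.mapDomain_of_notMem_range E.coeff x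
        fun h' => hx (by obtain ⟨y, rfl⟩ := h'; exact y.2), map_zero]

/-- Block parts in the centraliser computed inside a subgroup containing it. -/
theorem blockPart_secFun_inside (hM : IsPModular p M) {χ : G → ℂ} (hχ : IsCharacter G χ) {x : H}
    (hx : ∃ k : ℕ, orderOf x = p ^ k) {b : Set (IrrCharacter (cz (Subgroup.zpowers (x : G))))}
    (hb : IsPBlock M b) {b' : Set (IrrCharacter (cz (Subgroup.zpowers x)))} (hb' : IsPBlock M b')
    (hbb : inclA (ResK M) H (eA hM (cz (Subgroup.zpowers x)) b') =
      eA hM (cz (Subgroup.zpowers (x : G))) b)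
    {s : cz (Subgroup.zpowers (x : G))} {s' : cz (Subgroup.zpowers x)}
    (hss : ((s' : H) : G) = (s : G)) (hs : ¬ p ∣ orderOf s) :
    blockPart b (secFun (x : G) χ) s = blockPart b' (secFun x fun c : H => χ c) s' := by
  have hx' : ∃ k : ℕ, orderOf (x : G) = p ^ k := by simpa [Subgroup.orderOf_coe] using hx
  have hs' : ¬ p ∣ orderOf s' := by
    rwa [← Subgroup.orderOf_coe, ← Subgroup.orderOf_coe, hss, Subgroup.orderOf_coe]
  have hbi := isBlockIdem_eA hM hb'
  have hres : IsCharacter H (fun c : H => χ c) := CharGalois.isCharacter_comp hχ H.subtype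
  rw [← liftVal_eA hM hχ hx' hs hb, ← liftVal_eA hM hres hx hs' hb', ← hbb, ← hss]
  exact liftVal_inclA hM hχ (isPPart_sec hx hs') hbi.idem
    (commute_single_of_conjA (hbi.fixed _ (mul_mem (mem_cz_self x) s'.2)))

end CfsgLib.HomoTwo
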