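import Cfsg.Agent.Lib.HomoTwo.Group
import Cfsg.Agent.Lib.Blocks.Homo949Dual

/-!
# Counting combinations of linear characters with symmetric top values

At most eight such combinations of odd total can have small top coefficients when the products of
any two of them pair integrally with the stable functions supported on the top classes.
-/

set_option autoImplicit false
set_option linter.unusedSectionVars false
set_option linter.style.haveILetI false

noncomputable section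

namespace CfsgLib.HomoTwo

open scoped Classical ComplexConjugate

variable {P : Type*} [CommGroup P] [Fintype P]

theorem hom_pow_apply (μ : P →* ℂˣ) (k : ℕ) (x : P) : (μ ^ k) x = μ (x ^ k) := by
  rw [map_pow, MonoidHom.pow_apply]

theorem units_sq_eq_one {u : ℂˣ} (h : u ^ 2 = 1) : (u : ℂ) = 1 ∨ (u : ℂ) = -1 :=
  sq_eq_one_iff.1 (by rw [← Units.val_pow_eq_pow_val, h, Units.val_one])

theorem hp_pow_mul (μ : P →* ℂˣ) (a b : ℕ) : μ ^ (a * b) = (μ ^ a) ^ b := pow_mul μ a b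
theorem hp_inv_pow (μ : P →* ℂˣ) (a : ℕ) : μ⁻¹ ^ a = (μ ^ a)⁻¹ := inv_pow μ a
theorem hp_one_pow (a : ℕ) : (1 : P →* ℂˣ) ^ a = 1 := by ext; simp
theorem hp_mul_pow (μ ν : P →* ℂˣ) (a : ℕ) : (μ * ν) ^ a = μ ^ a * ν ^ a := mul_pow μ ν a
theorem hp_mul_assoc (a b c : P →* ℂˣ) : a * b * c = a * (b * c) := mul_assoc a b c
theorem hp_mul_comm (a b : P →* ℂˣ) : a * b = b * a := mul_comm a b
theorem hp_one_mul (a : P →* ℂˣ) : 1 * a = a := one_mul a
theorem hp_mul_one (a : P →* ℂˣ) : a * 1 = a := mul_one a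
theorem hp_mul_left_comm (a b c : P →* ℂˣ) : a * (b * c) = b * (a * c) := mul_left_comm a b c
theorem hp_inv_eq_one (a : P →* ℂˣ) : a⁻¹ = 1 ↔ a = 1 :=
  inv_eq_one (α := P →* ℂˣ)
theorem hp_mul_inv_eq_one (a b : P →* ℂˣ) : a * b⁻¹ = 1 ↔ a = b :=
  mul_inv_eq_one (G := P →* ℂˣ)
theorem hp_inv_mul_eq_one (a b : P →* ℂˣ) : a⁻¹ * b = 1 ↔ a = b :=
  inv_mul_eq_one (G := P →* ℂˣ)

/-- Rational algebraic integers with half an integral sum are even. -/
theorem even_of_half_integral {a : ℤ} (h : IsIntegral ℤ ((a : ℂ) / 2)) : Even a := by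
  have h' : IsIntegral ℤ ((a : ℚ) / 2) :=
    (isIntegral_algebraMap_iff (algebraMap ℚ ℂ).injective).1 (by simpa using h)
  obtain ⟨z, hz⟩ := IsIntegrallyClosed.isIntegral_iff.1 h'
  refine ⟨z, ?_⟩
  have h2 : (a : ℚ) = (z : ℚ) + z := by
    have hz' : (z : ℚ) = (a : ℚ) / 2 := by simpa using hz
    rw [hz']; ring
  exact_mod_cast h2

/-- The sign, if the square is trivial. -/
def sgnAt (y : P) (μ : P →* ℂˣ) : ℤ :=
  if μ ^ 2 = 1 then (if (μ y : ℂ) = 1 then 1 else -1) else 0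

theorem sgnAt_cast (y : P) (μ : P →* ℂˣ) :
    ((sgnAt y μ : ℤ) : ZMod 2) = if μ ^ 2 = 1 then 1 else 0 := by
  unfold sgnAt
  split_ifs <;> simp

theorem sgnAt_val (y : P) (μ : P →* ℂˣ) :
    ((sgnAt y μ : ℤ) : ℂ) = if μ ^ 2 = 1 then (μ y : ℂ) else 0 := by
  unfold sgnAt
  by_cases hμ : μ ^ 2 = 1
  · rw [if_pos hμ, if_pos hμ]
    rcases units_sq_eq_one (u := μ y) (by rw [← MonoidHom.pow_apply, hμ, MonoidHom.one_apply])
      with h | h
    · simp [h]
    · have : (μ y : ℂ) ≠ 1 := by rw [h]; norm_num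
      simp [h, this]
      norm_num
  · simp [if_neg hμ]

variable [Fintype (P →* ℂˣ)]

/-- The value of a combination of linear characters. -/
def Nv (n : (P →* ℂˣ) → ℕ) (x : P) : ℂ :=
  ∑ μ, (n μ : ℂ) * (μ x : ℂ)

/-- The parity of the multiplicity of a restriction to the squares. -/
def cls (n : (P →* ℂˣ) → ℕ) (θ : P →* ℂˣ) : ZMod 2 :=
  ∑ μ, if μ ^ 2 = θ then (n μ : ZMod 2) else 0

/-- The correlation of two parity vectors. -/
def corr (n n' : (P →* ℂˣ) → ℕ) (δ : P →* ℂˣ) : ZMod 2 :=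
  ∑ θ, cls n θ * cls n' (θ * δ)

theorem sum_mul_cls (n : (P →* ℂˣ) → ℕ) (f : (P →* ℂˣ) → ZMod 2) :
    ∑ θ, cls n θ * f θ = ∑ μ, (n μ : ZMod 2) * f (μ ^ 2) := by
  simp only [cls, Finset.sum_mul]
  rw [Finset.sum_comm]
  refine Finset.sum_congr rfl fun μ _ => ?_
  rw [Finset.sum_eq_single (μ ^ 2) (fun θ _ hθ => by rw [if_neg (Ne.symm hθ), zero_mul])
    (fun hh => absurd (Finset.mem_univ _) hh), if_pos rfl]

theorem cls_ne_zero {n : (P →* ℂˣ) → ℕ} {θ : P →* ℂˣ} (h : cls n θ ≠ 0) :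
    ∃ μ : P →* ℂˣ, μ ^ 2 = θ := by
  by_contra hne
  simp only [not_exists] at hne
  exact h (Finset.sum_eq_zero fun μ _ => if_neg (hne μ))

/-- The combinatorial core, on four bits. -/
theorem four_bits : ∀ a b c d a' b' c' d' : ZMod 2, a + b + c + d = 1 → a' + b' + c' + d' = 1 →
    a * b' + b * a' + c * d' + d * c' = a * c' + c * a' + b * d' + d * b' →
    a * b' + b * a' + c * d' + d * c' = a * d' + d * a' + b * c' + c * b' →
    (a ≠ b → a' = 1 ∨ b' = 1) ∧ (a ≠ c → a' = 1 ∨ c' = 1) ∧ (a ≠ d → a' = 1 ∨ d' = 1) := by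
  decide

namespace IsHomo

variable {m : ℕ} (h : IsHomo P m)
include h

theorem hom_pow_top (μ : P →* ℂˣ) : μ ^ 2 ^ m = 1 := by
  ext x
  rw [hom_pow_apply, h.pow_top, map_one, MonoidHom.one_apply]

theorem sum_top {x₀ y : P} (hy : y ∈ h.top x₀) (μ : P →* ℂˣ) :
    ∑ x ∈ h.top x₀, (μ x : ℂ) = (4 ^ (m - 1) : ℕ) * (sgnAt y μ : ℂ) := by
  rw [h.top_eq_image hy, Finset.sum_image fun a _ b _ hab => mul_left_cancel hab]
  simp only [map_mul, Units.val_mul, ← Finset.mul_sum]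
  rw [sgnAt_val]
  by_cases hμ : μ ^ 2 = 1
  · have h1 : ∀ z ∈ h.squares, (μ z : ℂ) = 1 := by
      intro z hz
      obtain ⟨w, rfl⟩ := (Finset.mem_filter.1 hz).2
      rw [powMonoidHom_apply, ← hom_pow_apply, hμ, MonoidHom.one_apply, Units.val_one]
    rw [if_pos hμ, Finset.sum_congr rfl h1, Finset.sum_const, nsmul_eq_mul, mul_one,
      h.card_squares', mul_comm]
  · obtain ⟨w, hw⟩ : ∃ w, (μ ^ 2) w ≠ 1 := by
      by_contra hall
      simp only [ne_eq, not_exists, not_not] at hall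
      exact hμ (MonoidHom.ext hall)
    rw [hom_pow_apply] at hw
    have hsum : (μ (w ^ 2) : ℂ) * ∑ z ∈ h.squares, (μ z : ℂ) = ∑ z ∈ h.squares, (μ z : ℂ) := by
      rw [Finset.mul_sum]
      have hw2 : w ^ 2 ∈ (powMonoidHom 2 : P →* P).range := ⟨w, rfl⟩
      refine Finset.sum_nbij' (fun z => w ^ 2 * z) (fun z => (w ^ 2)⁻¹ * z) ?_ ?_ ?_ ?_ ?_
      · intro z hz
        exact Finset.mem_filter.2 ⟨Finset.mem_univ _, mul_mem hw2 (Finset.mem_filter.1 hz).2⟩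
      · intro z hz
        exact Finset.mem_filter.2
          ⟨Finset.mem_univ _, mul_mem (inv_mem hw2) (Finset.mem_filter.1 hz).2⟩
      · intro z _; simp
      · intro z _; simp
      · intro z _; simp
    rw [if_neg hμ, mul_zero, (mul_left_eq_self₀.1 hsum).resolve_left
      fun e => hw (Units.val_eq_one.1 e), mul_zero]

/-- The top coefficient against `λ`. -/
theorem exists_eval {x₀ y : P} (hy : y ∈ h.top x₀) (n : (P →* ℂˣ) → ℕ) (lam : P →* ℂˣ) :
    ∃ e : ℤ, ∑ x ∈ h.top x₀, Nv n x * conj (lam x : ℂ) = (4 ^ (m - 1) : ℕ) * (e : ℂ) ∧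
      (e : ZMod 2) = cls n (lam ^ 2) := by
  refine ⟨∑ μ, (n μ : ℤ) * sgnAt y (μ * lam⁻¹), ?_, ?_⟩
  · simp only [Nv, Finset.sum_mul]
    rw [Finset.sum_comm, Int.cast_sum, Finset.mul_sum]
    refine Finset.sum_congr rfl fun μ _ => ?_
    rw [Int.cast_mul, Int.cast_natCast, mul_left_comm, ← h.sum_top hy, Finset.mul_sum]
    refine Finset.sum_congr rfl fun x _ => ?_
    rw [Blocks.Homo949.conj_hom, map_inv, MonoidHom.mul_apply, MonoidHom.inv_apply, Units.val_mul,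
      mul_assoc]
  · rw [Int.cast_sum, cls]
    refine Finset.sum_congr rfl fun μ _ => ?_
    rw [Int.cast_mul, Int.cast_natCast, sgnAt_cast]
    simp only [hp_mul_pow, hp_inv_pow, hp_mul_inv_eq_one]
    split_ifs <;> simp

/-- The top pairing of a product with `λ`. -/
theorem exists_pair {x₀ y : P} (hy : y ∈ h.top x₀) (n n' : (P →* ℂˣ) → ℕ) (lam : P →* ℂˣ) :
    ∃ d : ℤ, ∑ x ∈ h.top x₀, Nv n x * conj (Nv n' x) * (lam x : ℂ) =
        (4 ^ (m - 1) : ℕ) * (d : ℂ) ∧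
      (d : ZMod 2) = corr n n' (lam ^ 2) := by
  refine ⟨∑ μ, ∑ μ', (n μ : ℤ) * (n' μ' : ℤ) * sgnAt y (μ * μ'⁻¹ * lam), ?_, ?_⟩
  · simp only [Nv, map_sum, map_mul, Complex.conj_natCast, Finset.sum_mul, Finset.mul_sum,
      Int.cast_sum]
    rw [Finset.sum_comm]
    conv_lhs => arg 2; ext μ'; rw [Finset.sum_comm]
    rw [Finset.sum_comm]
    refine Finset.sum_congr rfl fun μ _ => Finset.sum_congr rfl fun μ' _ => ?_
    rw [Int.cast_mul, Int.cast_mul, Int.cast_natCast, Int.cast_natCast, mul_left_comm,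
      ← h.sum_top hy, Finset.mul_sum]
    refine Finset.sum_congr rfl fun x _ => ?_
    rw [Blocks.Homo949.conj_hom, map_inv, MonoidHom.mul_apply, MonoidHom.mul_apply,
      MonoidHom.inv_apply, Units.val_mul, Units.val_mul]
    ring
  · rw [Int.cast_sum, corr, sum_mul_cls]
    refine Finset.sum_congr rfl fun μ _ => ?_
    rw [Int.cast_sum, cls, Finset.mul_sum]
    refine Finset.sum_congr rfl fun μ' _ => ?_
    rw [Int.cast_mul, Int.cast_mul, Int.cast_natCast, Int.cast_natCast, sgnAt_cast]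
    simp only [hp_mul_pow, hp_inv_pow]
    by_cases hc : μ ^ 2 * (μ' ^ 2)⁻¹ * lam ^ 2 = 1
    · rw [if_pos hc, if_pos, mul_one]
      rw [hp_mul_comm (μ ^ 2), hp_mul_assoc, hp_inv_mul_eq_one] at hc
      exact hc
    · rw [if_neg hc, if_neg, mul_zero, mul_zero]
      intro e
      refine hc ?_
      rw [hp_mul_comm (μ ^ 2), hp_mul_assoc, hp_inv_mul_eq_one]
      exact e

/-- The data of three characters of order four whose squares fill the elements of order two. -/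
theorem exists_lam {τ : MulAut P} (hτ : orderOf τ = 3) {x₀ : P} (hx1 : x₀ ≠ 1) (hx2 : x₀ ^ 2 = 1) :
    ∃ lam : P →* ℂˣ, lam ^ 2 ≠ 1 ∧ lam ^ 4 = 1 ∧
      (lam.comp τ.toMonoidHom) ^ 2 ≠ lam ^ 2 := by
  obtain ⟨μ, hμ⟩ := CommGroup.exists_apply_ne_one_of_hasEnoughRootsOfUnity P ℂ hx1
  obtain ⟨y, hy⟩ := h.exists_pw_eq hx2
  refine ⟨μ ^ 2 ^ (m - 2), ?_, ?_, ?_⟩
  · intro e
    refine hμ ?_
    rw [← hy, ← hom_pow_apply, ← h.two_pow_succ, hp_pow_mul, e, MonoidHom.one_apply]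
  · rw [← hp_pow_mul, show 2 ^ (m - 2) * 4 = 2 ^ m by
      rw [show 4 = 2 * 2 from rfl, ← mul_assoc, h.two_pow_succ, h.two_pow_pred]]
    exact h.hom_pow_top μ
  · intro e
    rw [show ((μ ^ 2 ^ (m - 2)).comp τ.toMonoidHom) ^ 2 =
      ((μ ^ 2 ^ (m - 2)) ^ 2).comp τ.toMonoidHom by ext x; rfl] at e
    refine hμ ?_
    rw [← hy, ← hom_pow_apply, ← h.two_pow_succ, hp_pow_mul]
    obtain ⟨w, hw⟩ := h.exists_div_eq hτ y
    rw [← hw, map_mul, map_inv]
    have := DFunLike.congr_fun e w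
    rw [MonoidHom.comp_apply] at this
    exact mul_inv_eq_one.2 this

/-- A character of order two with signs `1, -1, -1` along an orbit at the top. -/
theorem exists_nu {τ : MulAut P} (hτ : orderOf τ = 3) {x₀ y : P} (hx1 : x₀ ≠ 1)
    (hy : y ∈ h.top x₀) :
    ∃ ν : P →* ℂˣ, ν ^ 2 = 1 ∧ (ν y : ℂ) = 1 ∧ (ν (τ y) : ℂ) = -1 ∧ (ν (τ (τ y)) : ℂ) = -1 := by
  obtain ⟨μ, hμ⟩ := CommGroup.exists_apply_ne_one_of_hasEnoughRootsOfUnity P ℂ hx1
  set ν := μ ^ 2 ^ (m - 1)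
  have hν2 : ν ^ 2 = 1 := by rw [← hp_pow_mul, h.two_pow_pred, h.hom_pow_top]
  have hνv : ∀ z, (ν z : ℂ) = 1 ∨ (ν z : ℂ) = -1 := fun z =>
    units_sq_eq_one (by rw [← MonoidHom.pow_apply, hν2, MonoidHom.one_apply])
  have hy1 : (ν y : ℂ) = -1 := (hνv y).resolve_left fun e => hμ (by
    rw [← h.mem_top.1 hy, ← hom_pow_apply]
    exact Units.val_eq_one.1 e)
  have hprod : (ν y : ℂ) * (ν (τ y) : ℂ) * (ν (τ (τ y)) : ℂ) = 1 := by
    rw [← Units.val_mul, ← Units.val_mul, ← map_mul, ← map_mul, h.mul_orbit hτ, map_one,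
      Units.val_one]
  have h3 : τ (τ (τ y)) = y := by
    have h1 : (τ ^ 3) y = y := by rw [← hτ, pow_orderOf_eq_one, MulAut.one_apply]
    simpa [pow_succ, MulAut.mul_apply] using h1
  have hcomp : ∀ σ : P →* P, (ν.comp σ) ^ 2 = 1 := fun σ => by
    ext z
    rw [MonoidHom.pow_apply, MonoidHom.comp_apply, ← MonoidHom.pow_apply, hν2,
      MonoidHom.one_apply, MonoidHom.one_apply]
  rcases hνv (τ y) with h1 | h1
  · rw [hy1, h1] at hprod
    refine ⟨ν.comp τ.toMonoidHom, hcomp _, h1, ?_, ?_⟩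
    · show (ν (τ (τ y)) : ℂ) = -1
      linear_combination -hprod
    · show (ν (τ (τ (τ y))) : ℂ) = -1
      rw [h3, hy1]
  · rw [hy1, h1] at hprod
    refine ⟨ν.comp (τ.toMonoidHom.comp τ.toMonoidHom), hcomp _, ?_, ?_, ?_⟩
    · show (ν (τ (τ y)) : ℂ) = 1
      linear_combination hprod
    · show (ν (τ (τ (τ y))) : ℂ) = -1
      rw [h3, hy1]
    · show (ν (τ (τ (τ (τ y)))) : ℂ) = -1
      rw [h3, h1]

/-- At most four squares have order at most two. -/
theorem card_two_torsion :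
    (Finset.univ.filter fun θ : P →* ℂˣ => (∃ μ : P →* ℂˣ, μ ^ 2 = θ) ∧ θ ^ 2 = 1).card ≤ 4 := by
  obtain ⟨g₁, g₂, hg⟩ := h.gens
  refine (Finset.card_le_card_of_injOn (fun θ => ((θ g₁ : ℂ), (θ g₂ : ℂ)))
    (t := ({1, -1} : Finset ℂ) ×ˢ ({1, -1} : Finset ℂ)) ?_ ?_).trans ?_
  · intro θ hθ
    have h2 := (Finset.mem_filter.1 hθ).2.2
    have hv : ∀ z, (θ z : ℂ) = 1 ∨ (θ z : ℂ) = -1 := fun z =>
      units_sq_eq_one (by rw [← MonoidHom.pow_apply, h2, MonoidHom.one_apply])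
    simp only [Finset.mem_product, Finset.mem_insert, Finset.mem_singleton, Finset.coe_product,
      Set.mem_prod, Finset.mem_coe]
    exact ⟨hv g₁, hv g₂⟩
  · intro θ _ θ' _ e
    obtain ⟨e1, e2⟩ := Prod.ext_iff.1 e
    ext x
    obtain ⟨i, j, rfl⟩ := hg x
    simp only [map_mul, map_pow, Units.val_mul, Units.val_pow_eq_pow_val]
    rw [show (θ g₁ : ℂ) = θ' g₁ from e1, show (θ g₂ : ℂ) = θ' g₂ from e2]
  · rw [Finset.card_product]
    exact le_trans (Nat.mul_le_mul Finset.card_le_two Finset.card_le_two) (le_of_eq rfl)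

/-- At most eight combinations. -/
theorem card_le_eight {τ : MulAut P} (hτ : orderOf τ = 3) {x₀ : P} (hx1 : x₀ ≠ 1)
    (hx2 : x₀ ^ 2 = 1) {ι : Type*} (s : Finset ι) (n : ι → (P →* ℂˣ) → ℕ)
    (hodd : ∀ i ∈ s, Odd (∑ μ, n i μ))
    (hsym : ∀ i ∈ s, ∀ x ∈ h.top x₀, Nv (n i) x⁻¹ = Nv (n i) x)
    (hbound : ∀ (lam : P →* ℂˣ) (e : ι → ℤ),
      (∀ i ∈ s, ∑ x ∈ h.top x₀, Nv (n i) x * conj (lam x : ℂ) = (4 ^ (m - 1) : ℕ) * (e i : ℂ)) →
        ∑ i ∈ s, e i ^ 2 ≤ 4)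
    (hint : ∀ (lam ν : P →* ℂˣ), ν ^ 2 = 1 →
      (∀ x ∈ h.top x₀, (ν x : ℂ) = 1 ∧ (ν (τ x) : ℂ) = -1 ∧ (ν (τ (τ x)) : ℂ) = -1) →
      ∀ i ∈ s, ∀ j ∈ s, IsIntegral ℤ ((Nat.card P : ℂ)⁻¹ *
        ∑ x ∈ h.top x₀, 2 * ((lam (τ x) : ℂ) + (lam (τ (τ x)) : ℂ)) *
          (Nv (n i) x * conj (Nv (n j) x)))) :
    s.card ≤ 8 := by
  obtain ⟨y, hy⟩ := h.exists_mem_top hx2
  have hA : ((4 ^ (m - 1) : ℕ) : ℂ) ≠ 0 := Nat.cast_ne_zero.2 (pow_ne_zero _ (by norm_num))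
  -- symmetry of the parities
  have hclsym : ∀ i ∈ s, ∀ θ, cls (n i) θ⁻¹ = cls (n i) θ := by
    intro i hi θ
    by_cases hθ : ∃ μ : P →* ℂˣ, μ ^ 2 = θ
    · obtain ⟨μ, rfl⟩ := hθ
      obtain ⟨e, he, he'⟩ := h.exists_eval hy (n i) μ
      obtain ⟨f, hf, hf'⟩ := h.exists_eval hy (n i) μ⁻¹
      have hef : e = f := by
        have h1 : ∑ x ∈ h.top x₀, Nv (n i) x * conj (μ x : ℂ) =
            ∑ x ∈ h.top x₀, Nv (n i) x * conj ((μ⁻¹ : P →* ℂˣ) x : ℂ) := by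
          refine Finset.sum_nbij' (fun x => x⁻¹) (fun x => x⁻¹)
            (fun x hx => h.inv_mem_top hx2 hx) (fun x hx => h.inv_mem_top hx2 hx)
            (fun x _ => inv_inv x) (fun x _ => inv_inv x) fun x hx => ?_
          rw [hsym i hi x hx, MonoidHom.inv_apply, map_inv, inv_inv]
        rw [he, hf] at h1
        exact_mod_cast mul_left_cancel₀ hA h1
      rw [← hp_inv_pow, ← hf', ← hef, he']
    · rw [show cls (n i) θ = 0 from not_not.1 fun hne => hθ (cls_ne_zero hne),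
        show cls (n i) θ⁻¹ = 0 from not_not.1 fun hne => hθ (by
          obtain ⟨μ, hμ⟩ := cls_ne_zero hne
          exact ⟨μ⁻¹, by rw [hp_inv_pow, hμ]; exact inv_inv θ⟩)]
  obtain ⟨lam, hl2, hl4, hl12⟩ := h.exists_lam hτ hx1 hx2
  have hττ : ∀ x, τ (τ (τ x)) = x := fun x => by
    have h1 : (τ ^ 3) x = x := by rw [← hτ, pow_orderOf_eq_one, MulAut.one_apply]
    simpa [pow_succ, MulAut.mul_apply] using h1
  set l1 := lam.comp τ.toMonoidHom with hl1
  set l2 := l1.comp τ.toMonoidHom with hl2'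
  have hl1v : ∀ x, l1 x = lam (τ x) := fun x => rfl
  have hl2v : ∀ x, l2 x = lam (τ (τ x)) := fun x => rfl
  set a := lam ^ 2 with ha
  set b := l1 ^ 2 with hb
  set c := l2 ^ 2 with hc
  have habc : a * b * c = 1 := by
    ext x
    simp only [a, b, c, MonoidHom.mul_apply, MonoidHom.pow_apply, hl1v, hl2v, ← mul_pow, ← map_mul,
      h.mul_orbit hτ, map_one, one_pow, MonoidHom.one_apply]
  have hb4 : ∀ {l : P →* ℂˣ} (σ : P →* P), l ^ 4 = 1 → (l.comp σ) ^ 4 = 1 := fun {l} σ hl => by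
    ext x
    rw [MonoidHom.pow_apply, MonoidHom.comp_apply, ← MonoidHom.pow_apply, hl,
      MonoidHom.one_apply, MonoidHom.one_apply]
  have ha2 : a * a = 1 := by rw [ha, ← pow_add]; exact hl4
  have hb2 : b * b = 1 := by rw [hb, ← pow_add]; exact hb4 _ hl4
  have hc2 : c * c = 1 := by rw [hc, ← pow_add]; exact hb4 _ (hb4 _ hl4)
  have hab : a * b = c := by rw [← hp_mul_one (a * b), ← hc2, ← hp_mul_assoc, habc, hp_one_mul]
  have hb1 : b ≠ 1 := fun e => hl2 (by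
    ext x
    have := DFunLike.congr_fun e (τ (τ x))
    rw [hb, MonoidHom.pow_apply, hl1v, hττ, MonoidHom.one_apply] at this
    rw [MonoidHom.pow_apply, this, MonoidHom.one_apply])
  have hc1 : c ≠ 1 := fun e => hl2 (by
    ext x
    have := DFunLike.congr_fun e (τ x)
    rw [hc, MonoidHom.pow_apply, hl2v, hττ, MonoidHom.one_apply] at this
    rw [MonoidHom.pow_apply, this, MonoidHom.one_apply])
  have hba : b ≠ a := hl12
  have hac : c ≠ a := fun e => hb1 (by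
    rw [← hab] at e
    exact (mul_eq_left (M := P →* ℂˣ)).1 e)
  have hbc : c ≠ b := fun e => (by
    rw [← hab] at e
    exact hl2 ((mul_eq_right (M := P →* ℂˣ)).1 e))
  have ha1 : a ≠ 1 := hl2
  -- the four squares of order at most two
  have hW : (Finset.univ.filter fun θ : P →* ℂˣ => (∃ μ : P →* ℂˣ, μ ^ 2 = θ) ∧ θ ^ 2 = 1) =
      {1, a, b, c} := by
    symm
    refine Finset.eq_of_subset_of_card_le ?_ ?_
    · intro θ hθ
      simp only [Finset.mem_insert, Finset.mem_singleton] at hθ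
      refine Finset.mem_filter.2 ⟨Finset.mem_univ _, ?_⟩
      rcases hθ with rfl | rfl | rfl | rfl
      · exact ⟨⟨1, hp_one_pow 2⟩, hp_one_pow 2⟩
      · exact ⟨⟨lam, rfl⟩, by rw [pow_two, ha2]⟩
      · exact ⟨⟨l1, rfl⟩, by rw [pow_two, hb2]⟩
      · exact ⟨⟨l2, rfl⟩, by rw [pow_two, hc2]⟩
    · refine h.card_two_torsion.trans (le_of_eq ?_)
      simp [Ne.symm ha1, Ne.symm hb1, Ne.symm hc1, Ne.symm hba, Ne.symm hac, Ne.symm hbc]
  have hfour : ∀ (i : ι) (g : (P →* ℂˣ) → ZMod 2),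
      ∑ θ ∈ Finset.univ.filter (fun θ : P →* ℂˣ => θ ^ 2 = 1), cls (n i) θ * g θ =
        cls (n i) 1 * g 1 + cls (n i) a * g a + cls (n i) b * g b + cls (n i) c * g c := by
    intro i g
    rw [← Finset.sum_subset (s₁ := ({1, a, b, c} : Finset (P →* ℂˣ))) ?_ ?_]
    · rw [Finset.sum_insert (by simp [Ne.symm ha1, Ne.symm hb1, Ne.symm hc1]),
        Finset.sum_insert (by simp [Ne.symm hba, Ne.symm hac]),
        Finset.sum_pair (Ne.symm hbc)]
      ring
    · rw [← hW]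
      intro θ hθ
      exact Finset.mem_filter.2 ⟨Finset.mem_univ _, (Finset.mem_filter.1 hθ).2.2⟩
    · intro θ hθ hθ'
      rw [not_not.1 fun hne => hθ' (hW ▸ Finset.mem_filter.2
        ⟨Finset.mem_univ _, cls_ne_zero hne, (Finset.mem_filter.1 hθ).2⟩), zero_mul]
  have hpairing : ∀ i ∈ s, ∀ j ∈ s, ∀ δ : P →* ℂˣ, δ * δ = 1 → corr (n i) (n j) δ =
      cls (n i) 1 * cls (n j) δ + cls (n i) a * cls (n j) (a * δ) +
        cls (n i) b * cls (n j) (b * δ) + cls (n i) c * cls (n j) (c * δ) := by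
    intro i hi j hj δ hδ
    have h1 := hfour i fun θ => cls (n j) (θ * δ)
    simp only [hp_one_mul] at h1 ⊢
    rw [corr, ← h1, ← Finset.sum_filter_add_sum_filter_not Finset.univ
      (fun θ : P →* ℂˣ => θ ^ 2 = 1)]
    refine add_eq_left.2 (Finset.sum_involution (fun θ _ => θ⁻¹) ?_ ?_ ?_ ?_)
    · intro θ _
      have hinv : θ⁻¹ * δ = (θ * δ)⁻¹ := by
        ext x
        have h3 : δ x * δ x = 1 := by rw [← MonoidHom.mul_apply, hδ, MonoidHom.one_apply]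
        simp only [MonoidHom.mul_apply, MonoidHom.inv_apply, map_inv, Units.val_mul,
          mul_inv, inv_eq_of_mul_eq_one_right h3]
      rw [hinv, hclsym i hi, hclsym j hj]
      exact CharTwo.add_self_eq_zero _
    · intro θ hθ _ e
      refine (Finset.mem_filter.1 hθ).2 ?_
      rw [pow_two]
      nth_rewrite 1 [← e]
      exact inv_mul_cancel θ
    · intro θ hθ
      refine Finset.mem_filter.2 ⟨Finset.mem_univ _, fun e => (Finset.mem_filter.1 hθ).2 ?_⟩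
      rwa [hp_inv_pow, hp_inv_eq_one] at e
    · intro θ _
      exact inv_inv θ
  have hone : ∀ i ∈ s, cls (n i) 1 + cls (n i) a + cls (n i) b + cls (n i) c = 1 := by
    intro i hi
    have h1 := hfour i fun _ => 1
    have h2 : ∑ θ : P →* ℂˣ, cls (n i) θ * (1 : ZMod 2) = 1 := by
      rw [sum_mul_cls]
      simp only [mul_one]
      rw [← Nat.cast_sum, ZMod.natCast_eq_one_iff_odd]
      exact hodd i hi
    simp only [mul_one] at h1 h2
    rw [← h1, ← h2, ← Finset.sum_filter_add_sum_filter_not Finset.univ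
      (fun θ : P →* ℂˣ => θ ^ 2 = 1)]
    refine (add_eq_left.2 (Finset.sum_involution (fun θ _ => θ⁻¹) ?_ ?_ ?_ ?_)).symm
    · intro θ _
      rw [hclsym i hi]
      exact CharTwo.add_self_eq_zero _
    · intro θ hθ _ e
      refine (Finset.mem_filter.1 hθ).2 ?_
      rw [pow_two]
      nth_rewrite 1 [← e]
      exact inv_mul_cancel θ
    · intro θ hθ
      refine Finset.mem_filter.2 ⟨Finset.mem_univ _, fun e => (Finset.mem_filter.1 hθ).2 ?_⟩
      rwa [hp_inv_pow, hp_inv_eq_one] at e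
    · intro θ _
      exact inv_inv θ
  -- the products are invariant
  obtain ⟨ν, hν2, hνy, hνy1, hνy2⟩ := h.exists_nu hτ hx1 hy
  have hνtop : ∀ x ∈ h.top x₀, (ν x : ℂ) = 1 ∧ (ν (τ x) : ℂ) = -1 ∧ (ν (τ (τ x)) : ℂ) = -1 := by
    intro x hx
    rw [h.top_eq_image hy] at hx
    obtain ⟨z, hz, rfl⟩ := Finset.mem_image.1 hx
    obtain ⟨w, rfl⟩ := (Finset.mem_filter.1 hz).2
    have hsq : ∀ u : P, (ν (u ^ 2) : ℂ) = 1 := fun u => by
      rw [← hom_pow_apply, hν2, MonoidHom.one_apply, Units.val_one]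
    simp only [powMonoidHom_apply, map_mul, map_pow τ, Units.val_mul, hsq, mul_one]
    exact ⟨hνy, hνy1, hνy2⟩
  have hinv : ∀ i ∈ s, ∀ j ∈ s, ∀ l : P →* ℂˣ,
      corr (n i) (n j) ((l.comp τ.toMonoidHom) ^ 2) =
        corr (n i) (n j) (((l.comp τ.toMonoidHom).comp τ.toMonoidHom) ^ 2) := by
    intro i hi j hj l
    obtain ⟨d, hd, hd'⟩ := h.exists_pair hy (n i) (n j) (l.comp τ.toMonoidHom)
    obtain ⟨e, he, he'⟩ := h.exists_pair hy (n i) (n j)
      ((l.comp τ.toMonoidHom).comp τ.toMonoidHom)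
    have h1 := hint l ν hν2 hνtop i hi j hj
    have h2 : (Nat.card P : ℂ)⁻¹ * ∑ x ∈ h.top x₀, 2 * ((l (τ x) : ℂ) + (l (τ (τ x)) : ℂ)) *
        (Nv (n i) x * conj (Nv (n j) x)) = ((d + e : ℤ) : ℂ) / 2 := by
      have h3 : ∑ x ∈ h.top x₀, 2 * ((l (τ x) : ℂ) + (l (τ (τ x)) : ℂ)) *
          (Nv (n i) x * conj (Nv (n j) x)) =
          2 * ((4 ^ (m - 1) : ℕ) * (d : ℂ) + (4 ^ (m - 1) : ℕ) * (e : ℂ)) := by
        rw [← hd, ← he, ← Finset.sum_add_distrib, Finset.mul_sum]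
        refine Finset.sum_congr rfl fun x _ => ?_
        show _ = 2 * (_ * (l (τ x) : ℂ) + _ * (l (τ (τ x)) : ℂ))
        ring
      rw [h3, h.card, show 4 ^ m = 4 * 4 ^ (m - 1) by
        rw [← pow_succ', Nat.sub_add_cancel (by have := h.two_le; omega)]]
      push_cast
      field_simp
      ring
    rw [h2] at h1
    have h4 := even_of_half_integral h1
    rw [← hd', ← he', ← sub_eq_zero, CharTwo.sub_eq_add, ← Int.cast_add,
      ZMod.intCast_zmod_eq_zero_iff_dvd]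
    exact_mod_cast even_iff_two_dvd.1 h4
  have hkey : ∀ i ∈ s, ∀ j ∈ s,
      (cls (n i) 1 ≠ cls (n i) a → cls (n j) 1 = 1 ∨ cls (n j) a = 1) ∧
        (cls (n i) 1 ≠ cls (n i) b → cls (n j) 1 = 1 ∨ cls (n j) b = 1) ∧
          (cls (n i) 1 ≠ cls (n i) c → cls (n j) 1 = 1 ∨ cls (n j) c = 1) := by
    intro i hi j hj
    have e1 := hinv i hi j hj lam
    have e2 := hinv i hi j hj l1
    rw [show (l2.comp τ.toMonoidHom) = lam from MonoidHom.ext fun x => congrArg lam (hττ x)] at e2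
    have hac' : a * c = b := by rw [← hab, ← hp_mul_assoc, ha2, hp_one_mul]
    have hbc' : b * c = a := by rw [← hab, hp_mul_left_comm, hb2, hp_mul_one]
    rw [← hl1, ← hl2', ← hb, ← hc, hpairing i hi j hj b hb2, hpairing i hi j hj c hc2, hab, hac',
      hb2, hbc', hc2, hp_mul_comm c b, hbc'] at e1
    rw [← hl2', ← hc, ← ha, hpairing i hi j hj c hc2, hpairing i hi j hj a ha2, hac', hbc', hc2,
      ha2, hp_mul_comm b a, hab, hp_mul_comm c a, hac'] at e2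
    refine four_bits _ _ _ _ _ _ _ _ (hone i hi) (hone j hj) ?_ ?_
    · linear_combination -e2 - e1
    · linear_combination -e2
  rcases s.eq_empty_or_nonempty with rfl | ⟨i₀, hi₀⟩
  · simp
  obtain ⟨l, hl⟩ : ∃ l : P →* ℂˣ, ∀ j ∈ s, cls (n j) (1 ^ 2) = 1 ∨ cls (n j) (l ^ 2) = 1 := by
    rw [hp_one_pow]
    by_cases h1 : cls (n i₀) 1 = cls (n i₀) a
    · by_cases h2 : cls (n i₀) 1 = cls (n i₀) b
      · refine ⟨l2, fun j hj => (hkey i₀ hi₀ j hj).2.2 fun h3 => ?_⟩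
        have h4 := hone i₀ hi₀
        rw [← h1, ← h2, show cls (n i₀) c = cls (n i₀) 1 from h3.symm] at h4
        generalize cls (n i₀) 1 = t at h4
        revert h4 t
        decide
      · exact ⟨l1, fun j hj => (hkey i₀ hi₀ j hj).2.1 h2⟩
    · exact ⟨lam, fun j hj => (hkey i₀ hi₀ j hj).1 h1⟩
  choose e he he' using fun (lam : P →* ℂˣ) (j : ι) => h.exists_eval hy (n j) lam
  have h1 := hbound 1 (e 1) fun j _ => he 1 j
  have h2 := hbound l (e l) fun j _ => he l j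
  have h3 : ∀ j ∈ s, (1 : ℤ) ≤ e 1 j ^ 2 + e l j ^ 2 := by
    intro j hj
    have hnz : ∀ z : ℤ, (z : ZMod 2) = 1 → 1 ≤ z ^ 2 := fun z hz => by
      have : z ≠ 0 := fun e0 => by rw [e0, Int.cast_zero] at hz; exact zero_ne_one hz
      have := Int.one_le_abs this
      nlinarith [sq_abs z]
    rcases hl j hj with hj' | hj'
    · nlinarith [hnz _ ((he' 1 j).trans hj'), sq_nonneg (e l j)]
    · nlinarith [hnz _ ((he' l j).trans hj'), sq_nonneg (e 1 j)]
  have h4 : (s.card : ℤ) ≤ ∑ j ∈ s, (e 1 j ^ 2 + e l j ^ 2) := by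
    rw [Finset.card_eq_sum_ones, Nat.cast_sum]
    exact Finset.sum_le_sum fun j hj => by simpa using h3 j hj
  rw [Finset.sum_add_distrib] at h4
  omega

end IsHomo

end CfsgLib.HomoTwo
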