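import Cfsg.Agent.Lib.HomoTwo.Stable
import Cfsg.Agent.Lib.NilBlk.Sections

/-!
# Inner products of products with characters, pair by pair

A product by a stable function paired with a character is a sum over the pairs of the block; when
the weight lives on one transversal of fused elements it is a sum over that transversal.
-/

set_option autoImplicit false
set_option linter.unusedSectionVars false

noncomputable section

namespace CfsgLib.HomoTwo

open Cfsg MonoidAlgebra CfsgLib.Blocks CfsgLib.BrauerPairs CfsgLib.BPStar CfsgLib.Characters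
open CfsgLib.NilBlk (extC wC regC mem_regC pEls mem_pEls wC_eq_zero)
open scoped Classical ComplexConjugate

universe u

variable {p : ℕ} [Fact p.Prime] {M : Ideal AlgInt} [M.IsMaximal]
variable {G : Type u} [Group G] [Fintype G]
variable {B : Set (IrrCharacter G)} {P : Subgroup G}
variable {e : Set (IrrCharacter (Subgroup.centralizer (P : Set G)))} {f : P → ℂ}

/-- The pairing of the parts of two functions at the pair `(u, b)`. -/
def crs (hM : IsPModular p M) (χ ψ : G → ℂ) (u : G) (b : MonoidAlgebra (ResK M) G) : ℂ :=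
  ∑ s ∈ regC p u, liftVal hM χ (u * (s : G)) b * conj (liftVal hM ψ (u * (s : G)) b)

variable {hM : IsPModular p M}

theorem crs_eA {χ ψ : G → ℂ} (hχ : IsCharacter G χ) (hψ : IsCharacter G ψ) {u : G}
    (hu : ∃ k : ℕ, orderOf u = p ^ k) {b : Set (IrrCharacter (cz (Subgroup.zpowers u)))}
    (hb : IsPBlock M b) :
    crs hM χ ψ u (eA hM (cz (Subgroup.zpowers u)) b) =
      ∑ s ∈ regC p u, blockPart b (secFun u χ) s * conj (blockPart b (secFun u ψ) s) :=
  Finset.sum_congr rfl fun s hs => by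
    rw [liftVal_eA hM hχ hu (mem_regC.1 hs) hb, liftVal_eA hM hψ hu (mem_regC.1 hs) hb]

theorem crs_conj {χ ψ : G → ℂ} (hχ : IsCharacter G χ) (hψ : IsCharacter G ψ) {u : G}
    (hu : ∃ k : ℕ, orderOf u = p ^ k) {b : MonoidAlgebra (ResK M) G}
    (hb : IsBlockIdem (cz (Subgroup.zpowers u)) b) (t : G) :
    crs hM χ ψ (t * u * t⁻¹) (conjA t b) = crs hM χ ψ u b := by
  have hmem : ∀ (r w s : G), s ∈ cz (Subgroup.zpowers w) →
      r * s * r⁻¹ ∈ cz (Subgroup.zpowers (r * w * r⁻¹)) := fun r w s hs => by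
    rw [← map_conj_zpowers, cz_map_conj]
    exact ⟨s, hs, rfl⟩
  symm
  refine Finset.sum_bij (fun s _ => ⟨t * (s : G) * t⁻¹, hmem t u s s.2⟩) (fun s hs => ?_)
    (fun a _ c _ hac => ?_) (fun s hs => ?_) fun s hs => ?_
  · rw [mem_regC, ← Subgroup.orderOf_coe, orderOf_conj', Subgroup.orderOf_coe]
    exact mem_regC.1 hs
  · exact Subtype.ext (mul_left_cancel (mul_right_cancel (congrArg Subtype.val hac)))
  · have h1 := hmem t⁻¹ _ s s.2
    rw [show t⁻¹ * (t * u * t⁻¹) * t⁻¹⁻¹ = u by group] at h1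
    refine ⟨⟨_, h1⟩, ?_, Subtype.ext (by simp [mul_assoc])⟩
    rw [mem_regC, ← Subgroup.orderOf_coe, orderOf_conj', Subgroup.orderOf_coe]
    exact mem_regC.1 hs
  · have hus : u * (s : G) ∈ cz (Subgroup.zpowers u) := mul_mem (mem_cz_self u) s.2
    show _ = liftVal hM χ (t * u * t⁻¹ * (t * (s : G) * t⁻¹)) (conjA t b) *
      conj (liftVal hM ψ (t * u * t⁻¹ * (t * (s : G) * t⁻¹)) (conjA t b))
    rw [show t * u * t⁻¹ * (t * (s : G) * t⁻¹) = t * (u * (s : G)) * t⁻¹ by group,
      liftVal_conj hM hχ (isPPart_sec hu (mem_regC.1 hs)) hb.idem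
        (commute_single_of_conjA (hb.fixed _ hus)) t,
      liftVal_conj hM hψ (isPPart_sec hu (mem_regC.1 hs)) hb.idem
        (commute_single_of_conjA (hb.fixed _ hus)) t]

/-- The inner product with a character, pair by pair. -/
theorem sum_starC_cross (h : StabCtx hM B P e f) {χ : IrrCharacter G} (hχ : χ ∈ B)
    (ψ : IrrCharacter G) :
    ∑ g, NilBlk.starC hM B P e f (χ : G → ℂ) g * conj ((ψ : G → ℂ) g) =
      ∑ u ∈ pEls p G, ∑ b ∈ blocksAt hM u,
        wC hM P e f u b * crs hM (χ : G → ℂ) (ψ : G → ℂ) u b := by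
  rw [NilBlk.sum_sections hM.1]
  refine Finset.sum_congr rfl fun u hu => ?_
  have hu' := mem_pEls.1 hu
  set bp : IrrCharacter G → Set (IrrCharacter (cz (Subgroup.zpowers u))) →
    cz (Subgroup.zpowers u) → ℂ := fun φ b => blockPart b (secFun u (φ : G → ℂ))
  rw [sum_blocksAt_eq hM u]
  calc ∑ s ∈ regC p u, NilBlk.starC hM B P e f (χ : G → ℂ) (u * (s : G)) *
        conj ((ψ : G → ℂ) (u * (s : G)))
      = ∑ s ∈ regC p u, ∑ b ∈ blockSets M (cz (Subgroup.zpowers u)),
          ∑ b' ∈ blockSets M (cz (Subgroup.zpowers u)),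
            wC hM P e f u (eA hM (cz (Subgroup.zpowers u)) b) * (bp χ b s * conj (bp ψ b' s)) := by
        refine Finset.sum_congr rfl fun s hs => ?_
        rw [NilBlk.starC_sec h.star.isPBlockB hχ hu' (mem_regC.1 hs),
          ← show ∑ b' ∈ blockSets M (cz (Subgroup.zpowers u)), bp ψ b' s =
              (ψ : G → ℂ) (u * (s : G)) from
            sum_blockPart hM (isClassFunction_secFun (irr_isClassFunction ψ) u) s,
          map_sum, Finset.sum_mul_sum]
        exact Finset.sum_congr rfl fun b _ => Finset.sum_congr rfl fun b' _ => by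
          simp only [bp]; ring
    _ = ∑ b ∈ blockSets M (cz (Subgroup.zpowers u)), ∑ b' ∈ blockSets M (cz (Subgroup.zpowers u)),
          wC hM P e f u (eA hM (cz (Subgroup.zpowers u)) b) *
            ∑ s ∈ regC p u, bp χ b s * conj (bp ψ b' s) := by
        rw [Finset.sum_comm]
        refine Finset.sum_congr rfl fun b _ => ?_
        rw [Finset.sum_comm]
        exact Finset.sum_congr rfl fun b' _ => (Finset.mul_sum _ _ _).symm
    _ = _ := by
        refine Finset.sum_congr rfl fun b hb => ?_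
        rw [Finset.sum_eq_single b]
        · rw [crs_eA (irr_isCharacter χ) (irr_isCharacter ψ) hu' (mem_blockSets.1 hb)]
        · intro b' hb' hne
          have hb1 := mem_blockSets.1 hb
          have hb2 := mem_blockSets.1 hb'
          have hz : ∑ s ∈ regC p u, bp χ b s * conj (bp ψ b' s) = 0 := by
            -- parts of different blocks are orthogonal on the regular elements
            simp only [bp, blockPart_eq_sum, map_sum, map_mul, Finset.sum_mul, Finset.mul_sum]
            rw [Finset.sum_comm]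
            refine Finset.sum_eq_zero fun η hη => ?_
            rw [Finset.sum_comm]
            refine Finset.sum_eq_zero fun ξ hξ => ?_
            have h0 := sum_regular_eq_zero_of_not_sameBlock hM (χ := ξ) (ψ := η) fun hs => hne (by
              rw [IsPBlock.eq_blockOf hM hb1 (Finset.mem_filter.1 hξ).2,
                IsPBlock.eq_blockOf hM hb2 (Finset.mem_filter.1 hη).2,
                blockOf_eq_of_sameBlock hM hs])
            rw [← mul_zero (classInner (secFun u (χ : G → ℂ)) (ξ : cz (Subgroup.zpowers u) → ℂ) *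
              conj (classInner (secFun u (ψ : G → ℂ)) (η : cz (Subgroup.zpowers u) → ℂ))), ← h0,
              Finset.mul_sum]
            exact Finset.sum_congr (by ext; simp [regC]) fun s _ => by ring
          rw [hz, mul_zero]
        · exact fun h0 => absurd hb h0

/-- Conjugators between a pair and the pairs of a transversal. -/
theorem sum_pairs_transversal (c : AbCtx hM B P e) (S : Finset P)
    (hS : ∀ x ∈ S, ∀ y ∈ S, ∀ t ∈ pairStab P (eA hM (cz P) e),
      t * (x : G) * t⁻¹ = y → x = y)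
    (φ : G → MonoidAlgebra (ResK M) G → ℂ)
    (hinv : ∀ (t u : G) (b : MonoidAlgebra (ResK M) G), (∃ k : ℕ, orderOf u = p ^ k) →
      IsBlockIdem (cz (Subgroup.zpowers u)) b → φ (t * u * t⁻¹) (conjA t b) = φ u b)
    (hsupp : ∀ (u : G) (b : MonoidAlgebra (ResK M) G), φ u b ≠ 0 →
      ∃ g, ∃ x ∈ S, g * (x : G) * g⁻¹ = u ∧ conjA g (subA p P (eA hM (cz P) e) x) = b) :
    ∑ u ∈ pEls p G, ∑ b ∈ blocksAt hM u, φ u b =
      (Nat.card G : ℂ) * ∑ x ∈ S, (Nat.card (cz (Subgroup.zpowers (x : G))) : ℂ)⁻¹ *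
        φ x (subA p P (eA hM (cz P) e) x) := by
  have := charP_res hM
  set a : P → MonoidAlgebra (ResK M) G := fun x => subA p P (eA hM (cz P) e) x with ha
  have hab : ∀ x : P, IsBlockIdem (cz (Subgroup.zpowers (x : G))) (a x) := fun x => by
    obtain ⟨f, hf, hfa, -⟩ := c.exists_local x
    rw [ha]
    simp only [← hfa]
    exact isBlockIdem_eA hM hf
  have hord : ∀ x : P, ∃ k : ℕ, orderOf (x : G) = p ^ k := fun x => by
    rw [Subgroup.orderOf_coe]; exact IsPGroup.iff_orderOf.1 c.pgroup x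
  set w : P → ℂ := fun x => (Nat.card (cz (Subgroup.zpowers (x : G))) : ℂ)⁻¹ with hw
  let Φ : P × G → (_ : G) × MonoidAlgebra (ResK M) G := fun q =>
    ⟨q.2 * (q.1 : G) * q.2⁻¹, conjA q.2 (a q.1)⟩
  set D := S ×ˢ (Finset.univ : Finset G) with hD
  set T := (pEls p G).sigma fun u => blocksAt hM u with hT
  have hmaps : ∀ q ∈ D, Φ q ∈ T := fun q _ => by
    refine Finset.mem_sigma.2 ⟨mem_pEls.2 ?_, (mem_blocksAt_iff hM).2 ?_⟩
    · show ∃ k, orderOf (q.2 * (q.1 : G) * q.2⁻¹) = p ^ k
      rw [orderOf_conj']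
      exact hord q.1
    · show IsBlockIdem (cz (Subgroup.zpowers (q.2 * (q.1 : G) * q.2⁻¹))) _
      rw [← map_conj_zpowers, cz_map_conj]
      exact (hab q.1).conjA q.2
  have e1 : ∑ q ∈ D, w q.1 * φ (Φ q).1 (Φ q).2 =
      (Nat.card G : ℂ) * ∑ x ∈ S, w x * φ x (a x) := by
    rw [hD, Finset.sum_product, Finset.mul_sum]
    refine Finset.sum_congr rfl fun x _ => ?_
    rw [Finset.sum_congr rfl (fun g _ => by
        rw [show (Φ (x, g)).1 = g * (x : G) * g⁻¹ from rfl,
          show (Φ (x, g)).2 = conjA g (a x) from rfl,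
          hinv g x (a x) (hord x) (hab x)] :
        ∀ g ∈ (Finset.univ : Finset G), w (x, g).1 * φ (Φ (x, g)).1 (Φ (x, g)).2 = w x * φ x (a x)),
      Finset.sum_const, Finset.card_univ, nsmul_eq_mul, Nat.card_eq_fintype_card]
  have e2 : ∑ q ∈ D, w q.1 * φ (Φ q).1 (Φ q).2 =
      ∑ u ∈ pEls p G, ∑ b ∈ blocksAt hM u, φ u b := by
    rw [← Finset.sum_fiberwise_of_maps_to hmaps, hT, Finset.sum_sigma]
    refine Finset.sum_congr rfl fun u _ => Finset.sum_congr rfl fun b _ => ?_
    rw [Finset.sum_congr rfl (fun q hq => by rw [(Finset.mem_filter.1 hq).2] :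
      ∀ q ∈ D.filter (fun q : P × G => Φ q = ⟨u, b⟩),
        w q.1 * φ (Φ q).1 (Φ q).2 = w q.1 * φ u b), ← Finset.sum_mul]
    by_cases h0 : φ u b = 0
    · rw [h0, mul_zero]
    obtain ⟨g₀, x, hx, hgx, hga⟩ := hsupp u b h0
    have hfil : (D.filter fun q : P × G => Φ q = ⟨u, b⟩) =
        ((Finset.univ : Finset (cz (Subgroup.zpowers (x : G)))).map
          ⟨fun d : cz (Subgroup.zpowers (x : G)) => (x, g₀ * (d : G)), fun d d' h =>
            Subtype.ext (mul_left_cancel (congrArg Prod.snd h))⟩) := by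
      ext ⟨y, g⟩
      simp only [Finset.mem_filter, hD, Finset.mem_product, Finset.mem_univ, and_true,
        Finset.mem_map, Function.Embedding.coeFn_mk, true_and, Prod.mk.injEq]
      constructor
      · rintro ⟨hy, hq⟩
        simp only [Φ, Sigma.mk.injEq, heq_eq_eq] at hq
        have h1 : g⁻¹ * g₀ * (x : G) * (g⁻¹ * g₀)⁻¹ = y := by
          rw [show g⁻¹ * g₀ * (x : G) * (g⁻¹ * g₀)⁻¹ = g⁻¹ * (g₀ * x * g₀⁻¹) * g by group, hgx,
            ← hq.1]
          group
        have h2 : conjA (g⁻¹ * g₀) (a x) = a y := by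
          rw [conjA_mul_left, hga, ← hq.2, ← conjA_mul_left, inv_mul_cancel, conjA_one_left]
        obtain ⟨t, ht, htx⟩ := c.mem_clsOf_iff.1 (mem_clsOf.2 ⟨_, h1, h2⟩ :
          y ∈ clsOf p P (eA hM (cz P) e) x)
        obtain rfl := hS x hx y hy t ht htx
        refine ⟨⟨g₀⁻¹ * g, ?_⟩, Prod.ext rfl (mul_inv_cancel_left g₀ g)⟩
        rw [cz_zpowers, Subgroup.mem_centralizer_singleton_iff]
        calc g₀⁻¹ * g * (x : G) = g₀⁻¹ * (g * x * g⁻¹) * g := by group
          _ = g₀⁻¹ * (g₀ * x * g₀⁻¹) * g := by rw [hq.1, hgx]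
          _ = x * (g₀⁻¹ * g) := by group
      · rintro ⟨d, hd'⟩
        obtain ⟨rfl, rfl⟩ : x = y ∧ g₀ * (d : G) = g := Prod.ext_iff.1 hd'
        refine ⟨hx, ?_⟩
        simp only [Φ]
        have hd := (commute_of_mem_cz d.2).eq
        have h1 : g₀ * (d : G) * (x : G) * (g₀ * d)⁻¹ = u := by
          rw [mul_assoc g₀, ← hd, ← hgx]; group
        rw [h1, conjA_mul_left, (hab x).fixed _ d.2, hga]
    rw [hfil, Finset.sum_map]
    show (∑ _d : cz (Subgroup.zpowers (x : G)), w x) * φ u b = φ u b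
    simp only [Finset.sum_const, Finset.card_univ, nsmul_eq_mul, hw, ← Nat.card_eq_fintype_card]
    rw [mul_inv_cancel₀ (Nat.cast_ne_zero.2 Nat.card_pos.ne' :
      (Nat.card (cz (Subgroup.zpowers (x : G))) : ℂ) ≠ 0), one_mul]
  rw [← e2, e1]

end CfsgLib.HomoTwo
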