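import Cfsg.Agent.Lib.BPStar.Abelian
import Mathlib.GroupTheory.FiniteAbelian.Duality

/-!
# Homocyclic 2-groups of rank two: elements and odd automorphisms
-/

set_option autoImplicit false
set_option linter.unusedSectionVars false
set_option linter.style.haveILetI false

noncomputable section

namespace CfsgLib.HomoTwo

open scoped Classical

/-- The properties of `C_(2^m) × C_(2^m)` that are used. -/
structure IsHomo (P : Type*) [CommGroup P] (m : ℕ) : Prop where
  two_le : 2 ≤ m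
  card : Nat.card P = 4 ^ m
  pow_top : ∀ x : P, x ^ 2 ^ m = 1
  pw_iff : ∀ x : P, x ^ 2 ^ (m - 1) = 1 ↔ ∃ z : P, z ^ 2 = x
  gens : ∃ g₁ g₂ : P, ∀ x : P, ∃ i j : ℕ, g₁ ^ i * g₂ ^ j = x
  card_sq : Nat.card (powMonoidHom 2 : P →* P).ker = 4

theorem zmod_mul_eq_zero_iff {n : ℕ} [NeZero n] (c : ℕ) (a : ZMod n) :
    (c : ZMod n) * a = 0 ↔ n ∣ c * a.val := by
  rw [← ZMod.natCast_eq_zero_iff, Nat.cast_mul, ZMod.natCast_zmod_val]

theorem isHomo_multiplicative {m : ℕ} (hm : 2 ≤ m) :
    IsHomo (Multiplicative (ZMod (2 ^ m) × ZMod (2 ^ m))) m := by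
  have hdiv : ∀ a : ZMod (2 ^ m), ((2 ^ (m - 1) : ℕ) : ZMod (2 ^ m)) * a = 0 →
      ∃ b : ZMod (2 ^ m), (2 : ℕ) • b = a := by
    intro a ha
    rw [zmod_mul_eq_zero_iff] at ha
    have h2 : 2 ∣ a.val := by
      refine Nat.dvd_of_mul_dvd_mul_left (k := 2 ^ (m - 1)) (pow_pos two_pos _) ?_
      rwa [← pow_succ, Nat.sub_add_cancel (by omega)]
    obtain ⟨c, hc⟩ := h2
    exact ⟨(c : ZMod (2 ^ m)), by
      rw [← ZMod.natCast_zmod_val a, hc, nsmul_eq_mul, Nat.cast_mul]⟩
  have htop : ∀ a : ZMod (2 ^ m), (2 ^ m : ℕ) • a = 0 := fun a => by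
    rw [nsmul_eq_mul, ZMod.natCast_self, zero_mul]
  refine ⟨hm, ?_, ?_, ?_, ?_, ?_⟩
  · rw [Nat.card_congr Multiplicative.toAdd, Nat.card_prod, Nat.card_zmod, ← mul_pow]
    norm_num
  · intro x
    apply Multiplicative.toAdd.injective
    rw [toAdd_pow, toAdd_one]
    exact Prod.ext (htop _) (htop _)
  · intro x
    constructor
    · intro h
      have h' := congrArg Multiplicative.toAdd h
      rw [toAdd_pow, toAdd_one] at h'
      obtain ⟨b₁, hb₁⟩ := hdiv x.toAdd.1 (by rw [← nsmul_eq_mul]; exact congrArg Prod.fst h')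
      obtain ⟨b₂, hb₂⟩ := hdiv x.toAdd.2 (by rw [← nsmul_eq_mul]; exact congrArg Prod.snd h')
      refine ⟨Multiplicative.ofAdd (b₁, b₂), Multiplicative.toAdd.injective ?_⟩
      rw [toAdd_pow, toAdd_ofAdd]
      exact Prod.ext hb₁ hb₂
    · rintro ⟨z, rfl⟩
      apply Multiplicative.toAdd.injective
      rw [← pow_mul, ← pow_succ', Nat.sub_add_cancel (by omega), toAdd_pow, toAdd_one]
      exact Prod.ext (htop _) (htop _)
  · refine ⟨Multiplicative.ofAdd (1, 0), Multiplicative.ofAdd (0, 1), fun x =>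
      ⟨x.toAdd.1.val, x.toAdd.2.val, Multiplicative.toAdd.injective ?_⟩⟩
    rw [toAdd_mul, toAdd_pow, toAdd_pow, toAdd_ofAdd, toAdd_ofAdd]
    ext <;> simp
  · have h : ∀ a : ZMod (2 ^ m), (2 : ℕ) • a = 0 ↔ a = 0 ∨ a = ((2 ^ (m - 1) : ℕ) : ZMod (2 ^ m)) := by
      intro a
      have hpow : 2 ^ m = 2 * 2 ^ (m - 1) := by
        rw [← pow_succ', Nat.sub_add_cancel (by omega)]
      constructor
      · intro ha
        rw [nsmul_eq_mul, zmod_mul_eq_zero_iff] at ha
        obtain ⟨c, hc⟩ := Nat.dvd_of_mul_dvd_mul_left two_pos (hpow.symm.dvd.trans ha)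
        have hlt := (ZMod.val_lt a).trans_eq hpow
        rw [hc] at hlt
        rcases (show c = 0 ∨ c = 1 by
          have := (Nat.mul_lt_mul_left (a := 2 ^ (m - 1)) (pow_pos two_pos _)).1
            (hlt.trans_eq (mul_comm _ _))
          omega) with rfl | rfl
        · left
          rw [← ZMod.natCast_zmod_val a, hc, mul_zero, Nat.cast_zero]
        · right
          rw [← ZMod.natCast_zmod_val a, hc, mul_one]
      · rintro (rfl | rfl)
        · rw [nsmul_zero]
        · rw [nsmul_eq_mul, ← Nat.cast_mul, ← hpow, ZMod.natCast_self]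
    have hne : ((2 ^ (m - 1) : ℕ) : ZMod (2 ^ m)) ≠ 0 := by
      rw [Ne, ZMod.natCast_eq_zero_iff, Nat.pow_dvd_pow_iff_le_right (by omega)]
      omega
    set c : ZMod (2 ^ m) := ((2 ^ (m - 1) : ℕ) : ZMod (2 ^ m)) with hc
    rw [Nat.card_eq_fintype_card, Fintype.card_subtype]
    have hset : (Finset.univ.filter fun x : Multiplicative (ZMod (2 ^ m) × ZMod (2 ^ m)) =>
        x ∈ (powMonoidHom 2 : _ →* Multiplicative (ZMod (2 ^ m) × ZMod (2 ^ m))).ker) =
        ((({0, c} : Finset (ZMod (2 ^ m))) ×ˢ ({0, c} : Finset (ZMod (2 ^ m)))).map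
          Multiplicative.ofAdd.toEmbedding) := by
      ext x
      simp only [Finset.mem_filter, Finset.mem_univ, true_and, MonoidHom.mem_ker,
        powMonoidHom_apply, Finset.mem_map_equiv, Finset.mem_product, Finset.mem_insert,
        Finset.mem_singleton]
      constructor
      · intro hx
        have h' := congrArg Multiplicative.toAdd hx
        rw [toAdd_pow, toAdd_one] at h'
        exact ⟨(h _).1 (congrArg Prod.fst h'), (h _).1 (congrArg Prod.snd h')⟩
      · intro hx
        apply Multiplicative.toAdd.injective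
        rw [toAdd_pow, toAdd_one]
        exact Prod.ext ((h _).2 hx.1) ((h _).2 hx.2)
    rw [hset, Finset.card_map, Finset.card_product, Finset.card_pair (Ne.symm hne)]

theorem IsHomo.of_equiv {P Q : Type*} [CommGroup P] [CommGroup Q] {m : ℕ} (h : IsHomo Q m)
    (f : P ≃* Q) : IsHomo P m := by
  refine ⟨h.two_le, (Nat.card_congr f.toEquiv).trans h.card, fun x => f.injective ?_,
    fun x => ?_, ?_, ?_⟩
  · rw [map_pow, map_one, h.pow_top]
  · rw [← f.injective.eq_iff, map_pow, map_one, h.pw_iff]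
    refine ⟨fun ⟨z, hz⟩ => ⟨f.symm z, f.injective ?_⟩, fun ⟨z, hz⟩ => ⟨f z, ?_⟩⟩
    · rw [map_pow, f.apply_symm_apply, hz]
    · rw [← map_pow, hz]
  · obtain ⟨g₁, g₂, hg⟩ := h.gens
    refine ⟨f.symm g₁, f.symm g₂, fun x => ?_⟩
    obtain ⟨i, j, hij⟩ := hg (f x)
    exact ⟨i, j, f.injective (by simp [hij])⟩
  · rw [← h.card_sq]
    refine Nat.card_congr (f.toEquiv.subtypeEquiv fun x => ?_)
    simp only [MonoidHom.mem_ker, powMonoidHom_apply, MulEquiv.toEquiv_eq_coe, EquivLike.coe_coe]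
    rw [← map_pow, MulEquiv.map_eq_one_iff]

namespace IsHomo

variable {P : Type*} [CommGroup P] [Fintype P] {m : ℕ} (h : IsHomo P m)
include h

theorem two_pow_pred : 2 ^ (m - 1) * 2 = 2 ^ m := by
  rw [← pow_succ, Nat.sub_add_cancel (by have := h.two_le; omega)]

theorem two_pow_succ : 2 ^ (m - 2) * 2 = 2 ^ (m - 1) := by
  have := h.two_le
  rw [← pow_succ]
  congr 1
  omega

/-- The elements killed by `2 ^ (m - 1)` are the squares. -/
theorem ker_pw : (powMonoidHom (2 ^ (m - 1)) : P →* P).ker = (powMonoidHom 2 : P →* P).range := by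
  ext x
  simp only [MonoidHom.mem_ker, powMonoidHom_apply, MonoidHom.mem_range]
  exact h.pw_iff x

theorem card_squares : Nat.card (powMonoidHom 2 : P →* P).range = 4 ^ (m - 1) := by
  have h1 := Subgroup.card_mul_index (powMonoidHom 2 : P →* P).ker
  rw [Subgroup.index_ker, h.card_sq, h.card] at h1
  have : 4 ^ m = 4 * 4 ^ (m - 1) := by
    rw [← pow_succ', Nat.sub_add_cancel (by have := h.two_le; omega)]
  omega

/-- The map onto the elements of order at most two. -/
theorem range_pw : (powMonoidHom (2 ^ (m - 1)) : P →* P).range = (powMonoidHom 2 : P →* P).ker := by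
  refine Subgroup.eq_of_le_of_card_ge ?_ ?_
  · rintro _ ⟨x, rfl⟩
    rw [MonoidHom.mem_ker, powMonoidHom_apply, powMonoidHom_apply, ← pow_mul, h.two_pow_pred,
      h.pow_top]
  · have h1 := Subgroup.card_mul_index (powMonoidHom (2 ^ (m - 1)) : P →* P).ker
    rw [Subgroup.index_ker, h.ker_pw, h.card_squares, h.card] at h1
    rw [h.card_sq]
    have : 4 ^ m = 4 ^ (m - 1) * 4 := by
      rw [← pow_succ, Nat.sub_add_cancel (by have := h.two_le; omega)]
    rw [this] at h1
    exact (Nat.eq_of_mul_eq_mul_left (pow_pos (by norm_num) _) h1).ge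

theorem exists_pw_eq {x₀ : P} (hx₀ : x₀ ^ 2 = 1) : ∃ y : P, y ^ 2 ^ (m - 1) = x₀ := by
  have h1 : x₀ ∈ (powMonoidHom (2 ^ (m - 1)) : P →* P).range := by
    rw [h.range_pw]; exact hx₀
  exact h1

/-- The elements lying over `x₀` at the top level. -/
def top (_h : IsHomo P m) (x₀ : P) : Finset P :=
  Finset.univ.filter fun x => x ^ 2 ^ (m - 1) = x₀

theorem mem_top {x₀ x : P} : x ∈ h.top x₀ ↔ x ^ 2 ^ (m - 1) = x₀ := by
  simp [top]

theorem inv_mem_top {x₀ x : P} (hx₀ : x₀ ^ 2 = 1) (hx : x ∈ h.top x₀) : x⁻¹ ∈ h.top x₀ := by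
  rw [h.mem_top] at hx ⊢
  rw [inv_pow, hx, inv_eq_iff_mul_eq_one, ← pow_two, hx₀]

/-- The squares, as a finset. -/
def squares (_h : IsHomo P m) : Finset P :=
  Finset.univ.filter fun x => x ∈ (powMonoidHom 2 : P →* P).range

theorem card_squares' : h.squares.card = 4 ^ (m - 1) := by
  rw [squares, ← Fintype.card_subtype, ← Nat.card_eq_fintype_card]
  exact h.card_squares

theorem top_eq_image {x₀ y : P} (hy : y ∈ h.top x₀) :
    h.top x₀ = h.squares.image fun z => y * z := by
  ext x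
  simp only [Finset.mem_image, squares, Finset.mem_filter, Finset.mem_univ, true_and, h.mem_top]
  rw [h.mem_top] at hy
  constructor
  · intro hx
    refine ⟨y⁻¹ * x, ?_, mul_inv_cancel_left y x⟩
    rw [← h.ker_pw, MonoidHom.mem_ker, powMonoidHom_apply, mul_pow, inv_pow, hy, hx,
      inv_mul_cancel]
  · rintro ⟨z, hz, rfl⟩
    rw [← h.ker_pw, MonoidHom.mem_ker, powMonoidHom_apply] at hz
    rw [mul_pow, hy, hz, mul_one]

theorem card_top {x₀ : P} (hx₀ : x₀ ^ 2 = 1) : (h.top x₀).card = 4 ^ (m - 1) := by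
  obtain ⟨y, hy⟩ := h.exists_pw_eq hx₀
  rw [h.top_eq_image (h.mem_top.2 hy), Finset.card_image_of_injective _ (mul_right_injective y),
    h.card_squares']

theorem exists_mem_top {x₀ : P} (hx₀ : x₀ ^ 2 = 1) : ∃ y, y ∈ h.top x₀ :=
  (h.exists_pw_eq hx₀).imp fun _ hy => h.mem_top.2 hy

theorem ne_of_mem_top {x₀ x : P} (hne : x₀ ≠ 1) (hx : x ∈ h.top x₀) : x ≠ x₀ := by
  rintro rfl
  rw [h.mem_top] at hx
  have h1 : x ^ 2 ^ m = x ^ 2 := by rw [← h.two_pow_pred, pow_mul, hx]
  rw [h.pow_top] at h1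
  have h2 : x ^ 2 ^ (m - 1) = 1 := by
    rw [← h.two_pow_succ, mul_comm, pow_mul, ← h1, one_pow]
  exact hne (hx.symm.trans h2)

theorem exists_involution : ∃ x₀ : P, x₀ ^ 2 = 1 ∧ x₀ ≠ 1 := by
  have hcard := h.card_sq
  haveI : Nontrivial (powMonoidHom 2 : P →* P).ker :=
    Finite.one_lt_card_iff_nontrivial.1 (by rw [hcard]; norm_num)
  obtain ⟨⟨x, hx⟩, hne⟩ := exists_ne (1 : (powMonoidHom 2 : P →* P).ker)
  exact ⟨x, hx, fun e => hne (Subtype.ext e)⟩

/-- Every nontrivial element powers to a nontrivial element of order two. -/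
theorem exists_pow_involution {x : P} (hx : x ≠ 1) :
    ∃ i : ℕ, i < m ∧ (x ^ 2 ^ i) ^ 2 = 1 ∧ x ^ 2 ^ i ≠ 1 := by
  have hex : ∃ i : ℕ, x ^ 2 ^ i = 1 := ⟨m, h.pow_top x⟩
  have h0 : 0 < Nat.find hex := Nat.pos_of_ne_zero fun e => hx (by
    have := Nat.find_spec hex
    rwa [e, pow_zero, pow_one] at this)
  have hle : Nat.find hex ≤ m := Nat.find_min' hex (h.pow_top x)
  refine ⟨Nat.find hex - 1, by omega, ?_, Nat.find_min hex (by omega)⟩
  rw [← pow_mul, ← pow_succ, Nat.sub_add_cancel h0]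
  exact Nat.find_spec hex

omit h in
/-- The exponent of the involution in a cyclic 2-group is determined by the element. -/
theorem pow_eq_unique {G : Type*} [Group G] {x a b : G} {i j : ℕ} (hi : x ^ 2 ^ i = a)
    (hj : x ^ 2 ^ j = b) (ha : a ^ 2 = 1) (hb : b ^ 2 = 1) (ha' : a ≠ 1) (hb' : b ≠ 1) : a = b := by
  rcases lt_trichotomy i j with hij | rfl | hij
  · refine absurd ?_ hb'
    obtain ⟨c, rfl⟩ := Nat.exists_eq_add_of_lt hij
    rw [← hj, show 2 ^ (i + c + 1) = 2 ^ i * (2 * 2 ^ c) by rw [pow_succ, pow_add]; ring, pow_mul,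
      hi, pow_mul, ha, one_pow]
  · rw [← hi, hj]
  · refine absurd ?_ ha'
    obtain ⟨c, rfl⟩ := Nat.exists_eq_add_of_lt hij
    rw [← hi, show 2 ^ (j + c + 1) = 2 ^ j * (2 * 2 ^ c) by rw [pow_succ, pow_add]; ring, pow_mul,
      hj, pow_mul, hb, one_pow]

/-- An automorphism of odd order fixing a nontrivial element is trivial. -/
theorem aut_eq_one {φ : MulAut P} (hodd : Odd (orderOf φ)) {x : P} (hx : x ≠ 1)
    (hfix : φ x = x) : φ = 1 := by
  obtain ⟨i, -, hu2, hu1⟩ := h.exists_pow_involution hx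
  set u := x ^ 2 ^ i
  have hfu : φ u = u := by rw [map_pow, hfix]
  -- all involutions are fixed
  set K := (powMonoidHom 2 : P →* P).ker with hK
  have hK4 : Nat.card K = 4 := h.card_sq
  have hkerfix : ∀ z : P, z ^ 2 = 1 → φ z = z := by
    intro z hz
    by_cases hz1 : z = 1
    · rw [hz1, map_one]
    by_cases hzu : z = u
    · rw [hzu, hfu]
    by_contra hne
    have hfz : (φ z) ^ 2 = 1 := by rw [← map_pow, hz, map_one]
    have hfz1 : φ z ≠ 1 := by rwa [Ne, MulEquiv.map_eq_one_iff]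
    have hfzu : φ z ≠ u := fun e => hzu (φ.injective (e.trans hfu.symm))
    have hffz : φ (φ z) = z := by
      by_contra hne2
      have h5 : 5 ≤ (Finset.univ.filter fun w : P => w ^ 2 = 1).card := by
        have hsub : ({1, u, z, φ z, φ (φ z)} : Finset P) ⊆
            Finset.univ.filter fun w : P => w ^ 2 = 1 := by
          intro w hw
          simp only [Finset.mem_insert, Finset.mem_singleton] at hw
          rcases hw with rfl | rfl | rfl | rfl | rfl <;> simp [hu2, hz, hfz, ← map_pow]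
        refine le_trans (le_of_eq ?_) (Finset.card_le_card hsub)
        have a1 : φ (φ z) ≠ 1 := by simpa using hz1
        have a2 : φ (φ z) ≠ u := fun e => hfzu (φ.injective (e.trans hfu.symm))
        have a3 : φ (φ z) ≠ φ z := fun e => hne (φ.injective e)
        simp [Finset.card_insert_of_notMem, Ne.symm hu1, Ne.symm hz1, Ne.symm hfz1, Ne.symm a1,
          Ne.symm hzu, Ne.symm hfzu, Ne.symm a2, Ne.symm hne, Ne.symm hne2, Ne.symm a3]
      rw [← Fintype.card_subtype, ← Nat.card_eq_fintype_card] at h5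
      have : Nat.card {w : P // w ^ 2 = 1} = 4 := hK4
      omega
    obtain ⟨k, hk⟩ := hodd
    have hiter : ∀ j : ℕ, (φ ^ (2 * j)) z = z := by
      intro j
      induction j with
      | zero => simp
      | succ j ih =>
        rw [Nat.mul_succ, pow_add, MulAut.mul_apply, pow_two, MulAut.mul_apply, hffz, ih]
    have h1 : (φ ^ orderOf φ) z = φ z := by
      rw [hk, pow_succ', MulAut.mul_apply, hiter]
    rw [pow_orderOf_eq_one, MulAut.one_apply] at h1
    exact hne h1.symm
  -- the retraction onto the fixed points is injective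
  have hcop : (Nat.card P).Coprime (Nat.card (Subgroup.zpowers φ)) := by
    rw [h.card, Nat.card_zpowers, show 4 ^ m = 2 ^ (2 * m) by rw [pow_mul]; norm_num]
    exact (Nat.Coprime.pow_left _ (Nat.coprime_two_left.2 hodd))
  obtain ⟨π, -, himg, hπ⟩ := BPStar.exists_retraction (Subgroup.zpowers φ) hcop
  have hπfix : ∀ w, φ w = w → π w = w := fun w hw => hπ w fun a ha => by
    obtain ⟨i, rfl⟩ := Subgroup.mem_zpowers_iff.1 ha
    have : φ ∈ MulAction.stabilizer (MulAut P) w := hw
    exact zpow_mem this i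
  have hinj : Function.Injective π := by
    rw [injective_iff_map_eq_one]
    intro w hw
    by_contra hw1
    obtain ⟨j, -, hv2, hv1⟩ := h.exists_pow_involution hw1
    have := hπfix _ (hkerfix _ hv2)
    rw [map_pow, hw, one_pow] at this
    exact hv1 this.symm
  have hsurj : Function.Surjective π := Finite.surjective_of_injective hinj
  refine MulEquiv.ext fun w => ?_
  obtain ⟨v, rfl⟩ := hsurj w
  exact himg φ (Subgroup.mem_zpowers φ) v

/-- A group of automorphisms of odd order has order one or three. -/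
theorem card_aut (Φ : Subgroup (MulAut P)) (hodd : Odd (Nat.card Φ)) :
    Nat.card Φ = 1 ∨ Nat.card Φ = 3 := by
  obtain ⟨x₀, hx2, hx1⟩ := h.exists_involution
  let f : Φ → {z : P // z ^ 2 = 1 ∧ z ≠ 1} := fun a =>
    ⟨(a : MulAut P) x₀, by rw [← map_pow, hx2, map_one], by rwa [Ne, MulEquiv.map_eq_one_iff]⟩
  have hf : Function.Injective f := by
    intro a b hab
    have h1 : (a : MulAut P) x₀ = (b : MulAut P) x₀ := congrArg Subtype.val hab
    have h2 : ((b⁻¹ * a : Φ) : MulAut P) = 1 := by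
      refine h.aut_eq_one ?_ hx1 ?_
      · rw [Subgroup.orderOf_coe]
        exact hodd.of_dvd_nat (orderOf_dvd_natCard _)
      · rw [Subgroup.coe_mul, Subgroup.coe_inv, MulAut.mul_apply, h1, MulAut.inv_apply_self]
    exact (inv_mul_eq_one.1 (Subtype.ext h2)).symm
  have h3 : Nat.card {z : P // z ^ 2 = 1 ∧ z ≠ 1} ≤ 3 := by
    have hcard : Nat.card {w : P // w ^ 2 = 1} = 4 := h.card_sq
    rw [Nat.card_eq_fintype_card, Fintype.card_subtype] at hcard ⊢
    have he : (Finset.univ.filter fun z : P => z ^ 2 = 1 ∧ z ≠ 1) =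
        (Finset.univ.filter fun z : P => z ^ 2 = 1).erase 1 := by
      ext z; simp [and_comm]
    rw [he, Finset.card_erase_of_mem (by simp), hcard]
  have hle := (Nat.card_le_card_of_injective f hf).trans h3
  obtain ⟨k, hk⟩ := hodd
  omega

/-- An automorphism of order three has no fixed points and `x (τ x) (τ² x) = 1`. -/
theorem mul_orbit {τ : MulAut P} (hτ : orderOf τ = 3) (x : P) : x * τ x * τ (τ x) = 1 := by
  have h3 : τ (τ (τ x)) = x := by
    have h1 : (τ ^ 3) x = x := by rw [← hτ, pow_orderOf_eq_one, MulAut.one_apply]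
    simpa [pow_succ, MulAut.mul_apply] using h1
  by_contra hne
  have h1 : τ = 1 := h.aut_eq_one (φ := τ) (by rw [hτ]; decide) hne (by
    rw [map_mul, map_mul, h3]
    ac_rfl)
  rw [h1, orderOf_one] at hτ
  norm_num at hτ

theorem aut_ne_self {τ : MulAut P} (hτ : orderOf τ = 3) {x : P} (hx : x ≠ 1) : τ x ≠ x := by
  intro e
  rw [h.aut_eq_one (φ := τ) (by rw [hτ]; decide) hx e, orderOf_one] at hτ
  norm_num at hτ

/-- `x ↦ (τ x) x⁻¹` is onto. -/
theorem exists_div_eq {τ : MulAut P} (hτ : orderOf τ = 3) (w : P) : ∃ x, τ x * x⁻¹ = w := by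
  have hinj : Function.Injective fun x => τ x * x⁻¹ := by
    intro a b hab
    by_contra hne
    refine h.aut_ne_self hτ (x := a * b⁻¹) (fun e => hne (mul_inv_eq_one.1 e)) ?_
    have hab' : τ a * a⁻¹ = τ b * b⁻¹ := hab
    rw [map_mul, map_inv]
    rw [mul_inv_eq_iff_eq_mul] at hab' ⊢
    rw [hab']
    ac_rfl
  exact Finite.surjective_of_injective hinj w

end IsHomo

end CfsgLib.HomoTwo
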