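import Cfsg.Agent.Lib.HomoTwo.Values
import Cfsg.Agent.Lib.Blk4.MajorSection
import Cfsg.Agent.Lib.Blk7.SubsectionSq
import Cfsg.Agent.Lib.Blocks.CyclicNilpotent
import Cfsg.Agent.Lib.BlockCover.DefectGroup
import Cfsg.Agent.Lib.KGV.CharTools

/-!
# The coefficients have odd totals

A character of the block whose total is even has coefficients over the involution with half of them
integral, and then their norms are too large.
-/

set_option autoImplicit false
set_option linter.unusedSectionVars false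
set_option linter.style.haveILetI false

noncomputable section

namespace CfsgLib.HomoTwo

open Cfsg MonoidAlgebra CfsgLib.Blocks CfsgLib.BrauerPairs CfsgLib.BPStar CfsgLib.Characters
open CfsgLib.Contribution
open scoped Classical ComplexConjugate

universe u

variable [Fact (Nat.Prime 2)] {M : Ideal AlgInt} [M.IsMaximal]
variable {G : Type u} [Group G] [Fintype G]

/-- Block parts on the section of `z` against each other, through the reduced degree. -/
theorem exists_red_mul (hM : IsPModular 2 M) {B : Set (IrrCharacter G)} (hB : IsPBlock M B) {z : G}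
    {n : ℕ} (hz : orderOf z = 2 ^ n)
    {b : Set (IrrCharacter (cz (Subgroup.zpowers z)))} (hb : IsPBlock M b) (χ : IrrCharacter G)
    {ψ : IrrCharacter G} (hψ : ψ ∈ B) :
    ∃ t : ℂ, MemLocalRing M t ∧
      (2 : ℂ) ^ blockDefect 2 B * (Nat.card (cz (Subgroup.zpowers z)) : ℂ)⁻¹ *
        ∑ s ∈ NilBlk.regC 2 z, blockPart b (secFun z (χ : G → ℂ)) s *
          conj (blockPart b (secFun z (ψ : G → ℂ)) s) = (red 2 B ψ : ℂ) * t := by
  have key : ∀ (K : Subgroup G), K = Subgroup.centralizer ({z} : Set G) →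
      ∀ b : Set (IrrCharacter K), IsPBlock M b → ∃ t : ℂ, MemLocalRing M t ∧
        (2 : ℂ) ^ blockDefect 2 B * (Nat.card K : ℂ)⁻¹ *
          ∑ s ∈ Finset.univ.filter (fun s : K => ¬ 2 ∣ orderOf s),
            blockPart b (fun c : K => (χ : G → ℂ) (z * (c : G))) s *
              conj (blockPart b (fun c : K => (ψ : G → ℂ) (z * (c : G))) s) =
          (red 2 B ψ : ℂ) * t := by
    rintro K rfl b hb
    haveI : Fintype (ConjClasses (Subgroup.centralizer ({z} : Set G))) := Fintype.ofFinite _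
    refine ⟨_, Blk4.Major.tz_mem z b hM hz χ ψ, ?_⟩
    rw [← Blk4.Major.cz_eq z b hM hz hb hB χ hψ, Blk4.Major.cz, Nat.cast_ofNat]
    congr 1
    refine Finset.sum_congr (by ext; simp) fun s _ => ?_
    rw [← Blk4.Major.blockPart_sectionFun, ← Blk4.Major.blockPart_sectionFun]
    rfl
  exact key _ (cz_zpowers z) b hb

variable {B : Set (IrrCharacter G)} {P : Subgroup G}
variable {e : Set (IrrCharacter (Subgroup.centralizer (P : Set G)))}
variable {hM : IsPModular 2 M} {m : ℕ} {x₀ : P} {β : Set (IrrCharacter (Cx x₀))}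
  {e' : Set (IrrCharacter (Subgroup.centralizer
      ((P.subgroupOf (Cx x₀) : Subgroup (Cx x₀)) : Set (Cx x₀))))}
  {ψ₀ : IrrCharacter (Cx x₀)}

namespace LocCtx

variable (L : LocCtx hM B P e m x₀ β e' ψ₀)
include L

theorem over_self : Over x₀ x₀ := ⟨0, by simp⟩

theorem over_of_pow {x : P} (h : x ^ 2 ^ (m - 1) = x₀) : Over x₀ x := ⟨m - 1, h⟩

theorem card_P : Nat.card P = 4 ^ m := by
  letI := commGroupOfLe L.ctx.comm
  exact L.homo.isHomo.card

theorem pow_blockDefect : 2 ^ blockDefect 2 B = Nat.card P :=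
  (BlockCover.natCard_defect hM L.ctx.isPBlockB L.ctx.defect).symm

theorem blockDefect_inside : blockDefect 2 β = blockDefect 2 B := by
  apply Nat.pow_right_injective (le_refl 2)
  show 2 ^ blockDefect 2 β = 2 ^ blockDefect 2 B
  rw [L.pow_blockDefect, ← L.card_subgroupOf]
  exact (BlockCover.natCard_defect hM L.inside.isPBlockB L.inside.defect).symm

theorem isInduced : IsInducedBlock M (Cx x₀) β B := by
  have := charP_res hM
  obtain ⟨n, hn⟩ := L.exists_pow_orderOf x₀
  refine CyclicDefectBound.induced_of_cover hM (IsPGroup.of_card (by rw [Nat.card_zpowers, hn]))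
    (Subgroup.zpowers_le.2 (mem_cz_self (x₀ : G))) rfl L.ctx.isPBlockB L.inside.isPBlockB ?_
  have hle : PairLE 2 (Subgroup.zpowers (x₀ : G), eA hM (Cx x₀) β) (P, eA hM (cz P) e) := by
    rw [(L.ctx.eA_eq_subA_iff x₀ L.inside.isPBlockB).2 L.cover]
    exact subA_le hM L.ctx.block L.ctx.pgroup x₀
  have hE := isBlockIdem_eG hM L.ctx.isPBlockB
  exact (brMap_cover_iff hle hE.fixed hE.idem).2 L.ctx.cover

/-- The total is odd for height zero. -/
theorem odd_total_of_red {χ : IrrCharacter G} (hχ : χ ∈ B) (h0 : ¬ 2 ∣ red 2 B χ) :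
    Odd (∑ μ : P →* ℂˣ, mult hM β e' ψ₀ χ μ) := by
  choose k hk using fun ξ : IrrCharacter (Cx x₀) => SubsectionSq.exists_mult_res χ ξ
  obtain ⟨n, hn⟩ := L.exists_pow_orderOf x₀
  have hodd := SubsectionSq.not_dvd_resDegree hM
    (IsPGroup.of_card (by rw [Nat.card_zpowers, hn]) : IsPGroup 2 (Subgroup.zpowers (x₀ : G)))
    (Subgroup.zpowers_le.2 (mem_cz_self (x₀ : G))) rfl L.isInduced L.blockDefect_inside hχ h0 k hk
  choose Φ hΦβ hΦ using L.exists_Phi
  have hred : ∀ μ, red 2 β (Φ μ) = red 2 β ψ₀ := fun μ => by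
    have h1 := congrFun (hΦ μ) 1
    rw [theta, NilBlk.starC_one L.nil (L.isClassFunction_fun fun x => (μ x : ℂ)) L.mem,
      apply_one_red (p := 2) (hΦβ μ), apply_one_red (p := 2) L.mem] at h1
    rw [show toP (1 : P.subgroupOf (Cx x₀)) = 1 from rfl, map_one, Units.val_one, one_mul] at h1
    exact_mod_cast mul_left_cancel₀ (pow_ne_zero _ (by norm_num : ((2 : ℕ) : ℂ) ≠ 0)) h1
  have hsum : ∑ ξ ∈ Finset.univ.filter (· ∈ β), k ξ * red 2 β ξ =
      red 2 β ψ₀ * ∑ μ : P →* ℂˣ, mult hM β e' ψ₀ χ μ := by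
    rw [Finset.mul_sum]
    symm
    refine Finset.sum_bij (fun μ _ => Φ μ)
      (fun μ _ => Finset.mem_filter.2 ⟨Finset.mem_univ _, hΦβ μ⟩)
      (fun μ _ ν _ h => L.theta_hom_injective (by rw [← hΦ μ, h, hΦ ν])) (fun ξ hξ => ?_)
      fun μ _ => ?_
    · obtain ⟨μ, hμ⟩ := L.exists_mem_eq (Finset.mem_filter.1 hξ).2
      exact ⟨μ, Finset.mem_univ _, Subtype.ext ((hΦ μ).trans hμ.symm)⟩
    · rw [hred, mul_comm]
      congr 1
      have := (hk (Φ μ)).symm.trans (L.mult_eq (hΦ μ))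
      exact_mod_cast this.symm
  rw [hsum] at hodd
  rw [← Nat.not_even_iff_odd, even_iff_two_dvd]
  exact fun h => hodd (h.mul_left _)

theorem hom_pow_top (μ : P →* ℂˣ) (x : P) : (μ x : ℂ) ^ 2 ^ m = 1 := by
  letI := commGroupOfLe L.ctx.comm
  rw [← Units.val_pow_eq_pow_val, ← map_pow, show x ^ 2 ^ m = 1 from L.homo.isHomo.pow_top x,
    map_one, Units.val_one]

/-- The coefficients are congruent to the total at every ideal over two. -/
theorem coef_congr {M' : Ideal AlgInt} (hM' : IsPModular 2 M') (χ : IrrCharacter G) (x : P) :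
    MemLocalIdeal M' (coef hM β e' ψ₀ χ x - ((∑ μ : P →* ℂˣ, mult hM β e' ψ₀ χ μ : ℕ) : ℂ)) := by
  rw [coef, Nat.cast_sum, ← Finset.sum_sub_distrib]
  refine MemLocalIdeal.sum hM' _ fun μ _ => ?_
  rw [← mul_sub_one]
  exact MemLocalIdeal.mul_left hM' (natCast_mem (lRing hM') _)
    (Blk4.Major.root_congr hM' (L.hom_pow_top μ x))

/-- If the reduced degree is even half the coefficients over `x₀` are integral. -/
theorem isIntegral_half {χ : IrrCharacter G} (hχ : χ ∈ B) (h2 : 2 ∣ red 2 B χ) {x : P}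
    (hx : Over x₀ x) : IsIntegral ℤ (coef hM β e' ψ₀ χ x / 2) := by
  obtain ⟨b, hb, hle⟩ := L.exists_blk x
  obtain ⟨χ₀, hχ₀, h0, -⟩ := exists_height_zero hM L.ctx.isPBlockB
  have hodd := L.odd_total_of_red hχ₀ h0
  obtain ⟨r, hr⟩ := h2
  have hint : ∀ χ : IrrCharacter G, IsIntegral ℤ (coef hM β e' ψ₀ χ x) := fun χ => by
    refine IsIntegral.sum _ fun μ _ => IsIntegral.mul ?_ ?_
    · exact isIntegral_algebraMap (R := ℤ) (x := (mult hM β e' ψ₀ χ μ : ℤ))
    · exact IsIntegral.of_pow (pow_pos two_pos m) (by rw [L.hom_pow_top]; exact isIntegral_one)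
  have hlocal : ∀ M' : Ideal AlgInt, IsPModular 2 M' →
      MemLocalRing M' (conj (coef hM β e' ψ₀ χ x / 2)) := by
    intro M' hM'
    have := hM'.2.1
    obtain ⟨n, hn⟩ := L.exists_pow_orderOf x
    obtain ⟨t, ht, hteq⟩ := exists_red_mul hM' (isPBlock_transfer hM hM' L.ctx.isPBlockB) hn
      (isPBlock_transfer hM hM' hb) χ₀ hχ
    have hdef : (2 : ℂ) ^ blockDefect 2 B = (Nat.card P : ℂ) := by
      rw [← L.pow_blockDefect]; push_cast; rfl
    rw [hdef, L.pairing hx hb hle χ₀ χ, hr, Nat.cast_mul, Nat.cast_ofNat] at hteq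
    have hu : ¬ MemLocalIdeal M' (coef hM β e' ψ₀ χ₀ x) := fun h => by
      have h1 : MemLocalIdeal M' ((∑ μ : P →* ℂˣ, mult hM β e' ψ₀ χ₀ μ : ℕ) : ℂ) := by
        simpa using MemLocalIdeal.sub hM' h (L.coef_congr hM' χ₀ x)
      exact Nat.not_even_iff_odd.2 hodd (even_iff_two_dvd.2 ((memLocalIdeal_natCast_iff hM' _).1 h1))
    have hu0 : coef hM β e' ψ₀ χ₀ x ≠ 0 := L.coef_ne_zero hx hχ₀
    have he : conj (coef hM β e' ψ₀ χ x / 2) = (coef hM β e' ψ₀ χ₀ x)⁻¹ * ((r : ℂ) * t) := by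
      rw [map_div₀, show conj (2 : ℂ) = 2 from Complex.conj_ofNat 2]
      field_simp
      linear_combination hteq
    rw [he]
    exact (lRing hM').mul_mem (inv_mem_lRing hM' (isIntegral_mem_lRing hM' (hint χ₀)) hu)
      ((lRing hM').mul_mem (natCast_mem (lRing hM') _) ht)
  have h1 : IsIntegral ℤ (conj (coef hM β e' ψ₀ χ x / 2)) := by
    refine isIntegral_of_local (p := 2) hM.1 (N := 1) ?_ hlocal
    rw [map_div₀, show conj (2 : ℂ) = 2 from Complex.conj_ofNat 2, Nat.cast_ofNat, pow_one,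
      mul_div_cancel₀ _ (two_ne_zero : (2 : ℂ) ≠ 0)]
    exact (hint χ).map (starRingEnd ℂ).toIntAlgHom
  simpa using h1.map (starRingEnd ℂ).toIntAlgHom

theorem coef_sign (χ : IrrCharacter G) :
    ∃ a : ℤ, coef hM β e' ψ₀ χ x₀ = (a : ℂ) ∧
      ((a : ZMod 2) = (∑ μ : P →* ℂˣ, mult hM β e' ψ₀ χ μ : ℕ)) := by
  have hs : ∀ μ : P →* ℂˣ, ∃ s : ℤ, (μ x₀ : ℂ) = (s : ℂ) ∧ ((s : ℤ) : ZMod 2) = 1 := fun μ => by
    have h1 : (μ x₀) ^ 2 = 1 := by rw [← map_pow, L.sq, map_one]
    rcases units_sq_eq_one h1 with h | h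
    · exact ⟨1, by rw [h]; simp, by simp⟩
    · exact ⟨-1, by rw [h]; simp, by push_cast; exact ZMod.neg_eq_self_mod_two 1⟩
  choose s hs hs' using hs
  refine ⟨∑ μ : P →* ℂˣ, (mult hM β e' ψ₀ χ μ : ℤ) * s μ, ?_, ?_⟩
  · rw [coef, Int.cast_sum]
    exact Finset.sum_congr rfl fun μ _ => by rw [hs, Int.cast_mul, Int.cast_natCast]
  · rw [Int.cast_sum, Nat.cast_sum]
    exact Finset.sum_congr rfl fun μ _ => by rw [Int.cast_mul, hs', mul_one, Int.cast_natCast]

/-- The norms of one row over `x₀` are bounded by the order of the group. -/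
theorem sum_norm_le (S : Finset P) (hS : ∀ x ∈ S, Over x₀ x) (χ : IrrCharacter G) :
    ∑ x ∈ S, Complex.normSq (coef hM β e' ψ₀ χ x) ≤ (Nat.card P : ℝ) := by
  set a : IrrCharacter G → P → ℂ := fun φ => coef hM β e' ψ₀ φ
  set v : IrrCharacter G → ℂ := fun φ => ∑ x ∈ S, a φ x * conj (a χ x)
  set T : ℝ := ∑ x ∈ S, Complex.normSq (a χ x) with hT
  have htot : ∑ φ : IrrCharacter G, v φ * conj (v φ) = (Nat.card P : ℂ) * (T : ℂ) := by
    calc ∑ φ : IrrCharacter G, v φ * conj (v φ)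
        = ∑ x ∈ S, ∑ y ∈ S, conj (a χ x) * a χ y *
            ∑ φ : IrrCharacter G, a φ x * conj (a φ y) := by
          simp only [v, map_sum, map_mul, Complex.conj_conj, Finset.sum_mul_sum]
          simp only [Finset.mul_sum]
          rw [Finset.sum_comm]
          refine Finset.sum_congr rfl fun x _ => ?_
          rw [Finset.sum_comm]
          exact Finset.sum_congr rfl fun y _ => Finset.sum_congr rfl fun φ _ => by ring
      _ = ∑ x ∈ S, conj (a χ x) * a χ x * (Nat.card P : ℂ) := by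
          refine Finset.sum_congr rfl fun x hx => ?_
          rw [Finset.sum_eq_single x]
          · rw [L.col_orth (hS x hx) (hS x hx), if_pos rfl]
          · intro y hy hne
            rw [L.col_orth (hS x hx) (hS y hy), if_neg (Ne.symm hne), mul_zero]
          · exact fun h => absurd hx h
      _ = _ := by
          rw [hT, Complex.ofReal_sum, Finset.mul_sum]
          exact Finset.sum_congr rfl fun x _ => by
            rw [mul_comm (conj _), Complex.mul_conj]; ring
  have hv : v χ = (T : ℂ) := by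
    rw [hT, Complex.ofReal_sum]
    exact Finset.sum_congr rfl fun x _ => Complex.mul_conj _
  have h1 : ∑ φ : IrrCharacter G, Complex.normSq (v φ) = (Nat.card P : ℝ) * T := by
    have h2 : ((∑ φ : IrrCharacter G, Complex.normSq (v φ) : ℝ) : ℂ) =
        (((Nat.card P : ℝ) * T : ℝ) : ℂ) := by
      rw [Complex.ofReal_sum, Complex.ofReal_mul, Complex.ofReal_natCast, ← htot]
      exact Finset.sum_congr rfl fun φ _ => (Complex.mul_conj _).symm
    exact_mod_cast h2
  have h3 := Finset.single_le_sum (f := fun φ => Complex.normSq (v φ))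
    (fun φ _ => Complex.normSq_nonneg _) (Finset.mem_univ χ)
  rw [h1] at h3
  simp only [hv, Complex.normSq_ofReal] at h3
  by_contra hlt
  rw [not_le] at hlt
  have hP : (0 : ℝ) ≤ (Nat.card P : ℝ) := Nat.cast_nonneg _
  nlinarith

theorem sum_top_norm (χ : IrrCharacter G) :
    ∃ d : ℤ, ∑ x ∈ Finset.univ.filter (fun x : P => x ^ 2 ^ (m - 1) = x₀),
      coef hM β e' ψ₀ χ x * conj (coef hM β e' ψ₀ χ x) = (4 ^ (m - 1) : ℕ) * (d : ℂ) := by
  letI := commGroupOfLe L.ctx.comm
  obtain ⟨y, hy⟩ := L.homo.isHomo.exists_mem_top L.sq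
  obtain ⟨d, hd, -⟩ := L.homo.isHomo.exists_pair hy (mult hM β e' ψ₀ χ) (mult hM β e' ψ₀ χ) 1
  refine ⟨d, ?_⟩
  simp only [MonoidHom.one_apply, Units.val_one, mul_one] at hd
  rw [show Finset.univ.filter (fun x : P => x ^ 2 ^ (m - 1) = x₀) = L.homo.isHomo.top x₀ from
    Finset.ext fun x => by simp [L.homo.isHomo.mem_top]]
  exact hd

/-- All totals are odd. -/
theorem odd_total {χ : IrrCharacter G} (hχ : χ ∈ B) :
    Odd (∑ μ : P →* ℂˣ, mult hM β e' ψ₀ χ μ) := by
  refine L.odd_total_of_red hχ fun h2 => ?_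
  letI := commGroupOfLe L.ctx.comm
  have hH := L.homo.isHomo
  set S := insert x₀ (hH.top x₀) with hS
  have hover : ∀ x ∈ S, Over x₀ x := fun x hx => by
    rcases Finset.mem_insert.1 hx with rfl | h
    · exact L.over_self
    · exact L.over_of_pow (hH.mem_top.1 h)
  have hx0 : x₀ ∉ hH.top x₀ := fun h => hH.ne_of_mem_top L.ne h rfl
  have hSc : S.card = 4 ^ (m - 1) + 1 := by
    rw [hS, Finset.card_insert_of_notMem hx0, hH.card_top L.sq]
  set a : P → ℂ := fun x => coef hM β e' ψ₀ χ x / 2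
  obtain ⟨d, hd⟩ := L.sum_top_norm χ
  obtain ⟨c, hc, -⟩ := L.coef_sign χ
  have hc2 : conj (2 : ℂ) = 2 := Complex.conj_ofNat 2
  have hq : ∑ x ∈ S, a x * conj (a x) =
      ((((c : ℚ) ^ 2 + (4 ^ (m - 1) : ℕ) * (d : ℚ)) / 4 : ℚ) : ℂ) := by
    rw [hS, Finset.sum_insert hx0]
    have e1 : ∑ x ∈ hH.top x₀, a x * conj (a x) =
        (∑ x ∈ hH.top x₀, coef hM β e' ψ₀ χ x * conj (coef hM β e' ψ₀ χ x)) / 4 := by
      rw [Finset.sum_div]
      refine Finset.sum_congr rfl fun x _ => ?_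
      simp only [a, map_div₀, hc2]
      ring
    rw [e1, show ∑ x ∈ hH.top x₀, coef hM β e' ψ₀ χ x * conj (coef hM β e' ψ₀ χ x) =
      (4 ^ (m - 1) : ℕ) * (d : ℂ) by
        rw [← hd]
        exact Finset.sum_congr (Finset.ext fun x => by simp [hH.mem_top]) fun _ _ => rfl]
    simp only [a, hc, map_div₀, hc2, map_intCast]
    push_cast
    ring
  have hle := KGV.card_ne_zero_le_sum_normSq S (N := Nat.card G) Nat.card_pos a
    (fun x _ => by
      refine div_mem (sum_mem fun μ _ => mul_mem (natCast_mem _ _) ?_) (ofNat_mem _ 2)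
      exact char_mem_rootField_sub (isCharacter_of_irr (isIrrCharacter_of_hom μ)) x)
    (fun x hx => L.isIntegral_half hχ h2 (hover x hx)) _ hq
  rw [Finset.filter_true_of_mem fun x hx => div_ne_zero (L.coef_ne_zero (hover x hx) hχ) two_ne_zero,
    hSc] at hle
  have hb := L.sum_norm_le S hover χ
  have e2 : ((((c : ℚ) ^ 2 + (4 ^ (m - 1) : ℕ) * (d : ℚ)) / 4 : ℚ) : ℝ) =
      (∑ x ∈ S, Complex.normSq (coef hM β e' ψ₀ χ x)) / 4 := by
    have h3 : ((∑ x ∈ S, Complex.normSq (a x) : ℝ) : ℂ) =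
        ((((((c : ℚ) ^ 2 + (4 ^ (m - 1) : ℕ) * (d : ℚ)) / 4 : ℚ) : ℝ)) : ℂ) := by
      rw [Complex.ofReal_ratCast, ← hq, Complex.ofReal_sum]
      exact Finset.sum_congr rfl fun x _ => (Complex.mul_conj _).symm
    rw [← Complex.ofReal_inj.1 h3, Finset.sum_div]
    exact Finset.sum_congr rfl fun x _ => by
      simp only [a, map_div₀, Complex.normSq_ofNat]
      norm_num
  rw [e2] at hle
  rw [L.card_P] at hb
  have h4 : (4 : ℝ) ^ m = 4 * 4 ^ (m - 1) := by
    rw [← pow_succ', Nat.sub_add_cancel (by have := hH.two_le; omega)]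
  push_cast at hle hb
  linarith

/-- The number of characters is divisible by eight. -/
theorem eight_dvd_card : 8 ∣ Nat.card B := by
  choose a ha ha' using fun χ => L.coef_sign χ
  have hodd : ∀ χ ∈ B, Odd (a χ) := fun χ hχ => by
    rw [← ZMod.intCast_eq_one_iff_odd, ha', ZMod.natCast_eq_one_iff_odd]
    exact L.odd_total hχ
  have hsum := L.col_orth L.over_self L.over_self
  rw [if_pos rfl, ← Finset.sum_subset (Finset.filter_subset (· ∈ B) Finset.univ)
    (fun χ _ hχ => by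
      rw [L.coef_eq_zero L.over_self (fun h => hχ (Finset.mem_filter.2 ⟨Finset.mem_univ _, h⟩)),
        zero_mul])] at hsum
  have h1 : ∑ χ ∈ Finset.univ.filter (· ∈ B), a χ ^ 2 = (Nat.card P : ℤ) := by
    have : ((∑ χ ∈ Finset.univ.filter (· ∈ B), a χ ^ 2 : ℤ) : ℂ) = ((Nat.card P : ℤ) : ℂ) := by
      rw [Int.cast_natCast, ← hsum, Int.cast_sum]
      exact Finset.sum_congr rfl fun χ _ => by rw [ha, map_intCast, Int.cast_pow]; ring
    exact_mod_cast this
  have h2 : (8 : ℤ) ∣ ∑ χ ∈ Finset.univ.filter (· ∈ B), (a χ ^ 2 - 1) :=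
    Finset.dvd_sum fun χ hχ => by
      obtain ⟨k, hk⟩ := hodd χ (Finset.mem_filter.1 hχ).2
      obtain ⟨j, hj⟩ := Int.even_mul_succ_self k
      exact ⟨j, by rw [hk]; linear_combination 4 * hj⟩
  rw [Finset.sum_sub_distrib, h1, Finset.sum_const, nsmul_eq_mul, mul_one,
    show (Finset.univ.filter (· ∈ B)).card = Nat.card B by
      rw [← Fintype.card_subtype, ← Nat.card_eq_fintype_card], L.card_P] at h2
  have h8 : 8 ∣ 4 ^ m := by
    letI := commGroupOfLe L.ctx.comm
    obtain ⟨j, hj⟩ := Nat.exists_eq_add_of_le L.homo.isHomo.two_le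
    exact ⟨2 * 4 ^ j, by rw [hj, pow_add]; ring⟩
  omega

end LocCtx

end CfsgLib.HomoTwo
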