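import Cfsg.Agent.Lib.HomoTwo.Group
import Cfsg.Agent.Lib.NilBlk.Main
import Cfsg.Agent.Lib.BPStar.Watanabe
import Cfsg.Agent.Lib.BrauerPairs.Nilpotent

/-!
# The inertial group of a block with homocyclic defect group of rank two
-/

set_option autoImplicit false
set_option linter.unusedSectionVars false
set_option linter.style.haveILetI false

namespace CfsgLib.HomoTwo

open Cfsg MonoidAlgebra CfsgLib.Blocks CfsgLib.BrauerPairs CfsgLib.BPStar CfsgLib.Characters
open scoped Classical ComplexConjugate

universe u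

section Comm

variable {A : Type u} [Group A] [Fintype A]

/-- A linear character as an irreducible one. -/
noncomputable def linIrr (f : A →* ℂˣ) : IrrCharacter A := ⟨_, isIrrCharacter_of_hom f⟩

theorem linIrr_apply (f : A →* ℂˣ) (x : A) : (linIrr f : A → ℂ) x = (f x : ℂ) := rfl

theorem linIrr_bijective (hcomm : ∀ a b : A, a * b = b * a) :
    Function.Bijective (linIrr (A := A)) := by
  haveI := Homo949.finite_dual hcomm
  haveI : Fintype (ConjClasses A) := Fintype.ofFinite _
  have hinj : Function.Injective (linIrr (A := A)) := fun f g h => by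
    ext x
    exact congrFun (congrArg Subtype.val h) x
  haveI : Finite (IrrCharacter A) := inferInstance
  refine hinj.bijective_of_nat_card_le ?_
  rw [Homo949.card_dual hcomm, card_irr_eq_card_conjClasses]
  exact Nat.card_le_card_of_surjective ConjClasses.mk Quotient.mk_surjective

theorem charDegree_linIrr (f : A →* ℂˣ) : charDegree (linIrr f : A → ℂ) = 1 := by
  have h := CharCorr.irr_one_eq_charDegree (linIrr f)
  rw [linIrr_apply, map_one, Units.val_one] at h
  exact_mod_cast h.symm

theorem card_irr_of_comm (hcomm : ∀ a b : A, a * b = b * a) :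
    Nat.card (IrrCharacter A) = Nat.card A := by
  rw [← Nat.card_eq_of_bijective _ (linIrr_bijective hcomm), Homo949.card_dual hcomm]

end Comm

variable [Fact (Nat.Prime 2)] {M : Ideal AlgInt} [M.IsMaximal]
variable {G : Type u} [Group G] [Fintype G]
variable {B : Set (IrrCharacter G)} {P : Subgroup G}
variable {e : Set (IrrCharacter (Subgroup.centralizer (P : Set G)))}
variable {hM : IsPModular 2 M}

/-- The commutative structure of an abelian subgroup. -/
@[reducible] noncomputable def commGroupOfLe (hP : P ≤ cz P) : CommGroup P :=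
  { (inferInstance : Group P) with
    mul_comm := fun a b => Subtype.ext (mem_cz.1 (hP b.2) a a.2) }

/-- The shape of the defect group. -/
def IsHomoGroup (P : Type*) [Group P] (m : ℕ) : Prop :=
  2 ≤ m ∧ Nonempty (P ≃* Multiplicative (ZMod (2 ^ m) × ZMod (2 ^ m)))

theorem IsHomoGroup.isHomo {Q : Type*} [CommGroup Q] {m : ℕ} (h : IsHomoGroup Q m) : IsHomo Q m :=
  (isHomo_multiplicative h.1).of_equiv h.2.some

theorem IsHomoGroup.of_equiv {Q Q' : Type*} [Group Q] [Group Q'] {m : ℕ} (h : IsHomoGroup Q m)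
    (f : Q' ≃* Q) : IsHomoGroup Q' m :=
  ⟨h.1, ⟨f.trans h.2.some⟩⟩

theorem IsHomoGroup.comm {m : ℕ} (h : IsHomoGroup P m) : P ≤ cz P := by
  refine le_cz_of_comm fun x hx y hy => ?_
  have h1 : (⟨x, hx⟩ : P) * ⟨y, hy⟩ = ⟨y, hy⟩ * ⟨x, hx⟩ :=
    h.2.some.injective (by rw [map_mul, map_mul, mul_comm])
  exact congrArg Subtype.val h1

variable (hM)

/-- The action of the stabiliser of the pair. -/
noncomputable def pairAut (P : Subgroup G)
    (e : Set (IrrCharacter (Subgroup.centralizer (P : Set G)))) :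
    pairStab P (eA hM (cz P) e) →* MulAut P :=
  P.normalizerMonoidHom.comp (Subgroup.inclusion fun _ hg => hg.1)

theorem coe_pairAut (t : pairStab P (eA hM (cz P) e)) (x : P) :
    ((pairAut hM P e t x : P) : G) = (t : G) * x * (t : G)⁻¹ := rfl

theorem ker_pairAut :
    (pairAut hM P e).ker = (cz P).subgroupOf (pairStab P (eA hM (cz P) e)) := by
  ext t
  rw [MonoidHom.mem_ker, Subgroup.mem_subgroupOf, mem_cz]
  constructor
  · intro h q hq
    have := congrArg Subtype.val (DFunLike.congr_fun h ⟨q, hq⟩)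
    rw [coe_pairAut] at this
    exact (mul_inv_eq_iff_eq_mul.1 this).symm
  · intro h
    ext x
    rw [coe_pairAut]
    exact mul_inv_eq_iff_eq_mul.2 (h x x.2).symm

variable {hM} (c : AbCtx hM B P e) {m : ℕ} (hP : IsHomoGroup P m)
include c

theorem card_range_pairAut :
    Nat.card (pairAut hM P e).range = (cz P).relIndex (pairStab P (eA hM (cz P) e)) := by
  rw [← Subgroup.index_ker, ker_pairAut]
  rfl

theorem odd_range_pairAut : Odd (Nat.card (pairAut hM P e).range) := by
  rw [card_range_pairAut c, ← Nat.not_even_iff_odd, even_iff_two_dvd]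
  exact c.not_dvd_relIndex

include hP

/-- The inertial index is one or three. -/
theorem relIndex_pairStab :
    (cz P).relIndex (pairStab P (eA hM (cz P) e)) = 1 ∨
      (cz P).relIndex (pairStab P (eA hM (cz P) e)) = 3 := by
  letI := commGroupOfLe c.comm
  haveI : Fintype P := Fintype.ofFinite _
  rw [← card_range_pairAut c]
  exact hP.isHomo.card_aut _ (odd_range_pairAut c)

/-- A member of the stabiliser fixing a nontrivial element centralises the group. -/
theorem mem_cz_of_fix {t : G} (ht : t ∈ pairStab P (eA hM (cz P) e)) {x : P} (hx : x ≠ 1)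
    (hfix : t * (x : G) * t⁻¹ = x) : t ∈ cz P := by
  letI := commGroupOfLe c.comm
  haveI : Fintype P := Fintype.ofFinite _
  have hodd : Odd (orderOf (pairAut hM P e ⟨t, ht⟩)) :=
    (odd_range_pairAut c).of_dvd_nat (Subgroup.orderOf_dvd_natCard _ ⟨_, rfl⟩)
  have h1 : pairAut hM P e ⟨t, ht⟩ = 1 :=
    hP.isHomo.aut_eq_one hodd hx (Subtype.ext hfix)
  have h2 : (⟨t, ht⟩ : pairStab P (eA hM (cz P) e)) ∈ (pairAut hM P e).ker := h1
  rw [ker_pairAut] at h2
  exact h2

/-- With a fixed point the block is nilpotent. -/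
theorem nilCtx_of_fix {x : P} (hx : x ≠ 1)
    (hfix : ∀ t ∈ pairStab P (eA hM (cz P) e), t * (x : G) * t⁻¹ = x) :
    NilBlk.NilCtx hM B P e := by
  refine NilBlk.nilCtx_of_nilpotent hM ((nilpotent_iff_of_abelian hM c.hmax
    fun a ha b hb => mem_cz.1 (c.comm hb) a ha).2 fun t htN hte => ?_) c.hmax
  have ht : t ∈ pairStab P (eA hM (cz P) e) := mem_pairStab.2 ⟨htN,
    (stabilizesBlock_iff_conjA hM (normalizer_le_normalizer_cz P htN) c.hmax.1.1.2).1 hte⟩
  exact mem_cz_of_fix c hP ht hx (hfix t ht)

omit hP in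
/-- The invariants of a nilpotent block with abelian defect group. -/
theorem invariants_of_nilCtx (h : NilBlk.NilCtx hM B P e) :
    blockRank 2 B = 1 ∧ Nat.card B = Nat.card P ∧
      ∀ χ ∈ B, blockHeight 2 B (χ : G → ℂ) = 0 := by
  letI := commGroupOfLe c.comm
  obtain ⟨χ₀, hχ₀, Φ, hΦ⟩ := NilBlk.exists_equiv h
  haveI : Fintype P := Fintype.ofFinite _
  have hdeg : ∀ lam : IrrCharacter P, charDegree (lam : P → ℂ) = 1 := fun lam =>
    by
      obtain ⟨f, rfl⟩ := (linIrr_bijective fun a b : P => mul_comm a b).surjective lam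
      exact charDegree_linIrr f
  refine ⟨?_, ?_, fun χ hχ => ?_⟩
  · refine le_antisymm ?_ (CyclicDefectBound.one_le_blockRank hM c.isPBlockB)
    rw [blockRank]
    refine le_trans (Submodule.finrank_mono (t := ℂ ∙ pRegularPart 2 (χ₀ : G → ℂ)) ?_)
      ((finrank_span_le_card _).trans (by simp))
    rw [Submodule.span_le]
    rintro _ ⟨φ, hφ, rfl⟩
    obtain ⟨lam, hlam⟩ := Φ.surjective ⟨φ, hφ⟩
    refine Submodule.mem_span_singleton.2 ⟨1, ?_⟩
    funext g
    have h2 := (hΦ lam).2 g
    rw [hlam, hdeg, Nat.cast_one, one_mul] at h2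
    rw [one_smul]
    exact h2.symm
  · rw [← Nat.card_congr Φ, card_irr_of_comm fun a b : P => mul_comm a b]
  · obtain ⟨lam, hlam⟩ := Φ.surjective ⟨χ, hχ⟩
    have h1 := (hΦ lam).1
    rw [hlam, hdeg] at h1
    simpa using h1

omit c hP in
/-- A block with homocyclic defect group centralised at a nontrivial element has rank one. -/
theorem rank_one_of_central {hM : IsPModular 2 M} {H : Type u} [Group H] [Fintype H]
    {f : Set (IrrCharacter H)} {D : Subgroup H} (hf : IsPBlock M f)
    (hD : IsDefectGroup 2 M f D) {m : ℕ} (hD' : IsHomoGroup D m) {z : D} (hz : z ≠ 1)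
    (hzc : (z : H) ∈ Subgroup.center H) : blockRank 2 f = 1 := by
  obtain ⟨e, he⟩ := NilBlk.exists_maximalPair hM hf hD
  have c : AbCtx hM f D e := ⟨he, hD'.comm⟩
  exact (invariants_of_nilCtx c (nilCtx_of_fix c hD' hz fun t _ => by
    rw [Subgroup.mem_center_iff.1 hzc t, mul_inv_cancel_right])).1

end CfsgLib.HomoTwo
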