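import Cfsg.Agent.Lib.HomoTwo.Height
import Cfsg.Agent.Lib.SectionGalois.Count

/-!
# Characters fixed by inverting the 2-parts have symmetric coefficients
-/

set_option autoImplicit false
set_option linter.unusedSectionVars false
set_option linter.style.haveILetI false

noncomputable section

namespace CfsgLib.HomoTwo

open Cfsg MonoidAlgebra CfsgLib.Blocks CfsgLib.BrauerPairs CfsgLib.BPStar CfsgLib.Characters
open scoped Classical ComplexConjugate

universe u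

variable [Fact (Nat.Prime 2)] {M : Ideal AlgInt} [M.IsMaximal]
variable {G : Type u} [Group G] [Fintype G]

/-- An exponent inverting the 2-elements and fixing those of odd order. -/
theorem exists_flip (G : Type u) [Group G] [Fintype G] :
    ∃ k : ℕ, k.Coprime (Nat.card G) ∧ (∀ g : G, ¬ 2 ∣ orderOf g → g ^ k = g) ∧
      ∀ g : G, (∃ j : ℕ, orderOf g = 2 ^ j) → g ^ k = g⁻¹ := by
  have hn0 : Nat.card G ≠ 0 := Nat.card_pos.ne'
  set a := (Nat.card G).factorization 2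
  set N := Nat.card G / 2 ^ a with hN
  have hprod : 2 ^ a * N = Nat.card G := Nat.ordProj_mul_ordCompl_eq_self _ _
  have hodd : ¬ 2 ∣ N := Nat.not_dvd_ordCompl Nat.prime_two hn0
  have hcop : Nat.Coprime (2 ^ a) N :=
    Nat.Coprime.pow_left a ((Nat.prime_two.coprime_iff_not_dvd).2 hodd)
  obtain ⟨k, hk1, hk2⟩ := Nat.chineseRemainder hcop (2 ^ a - 1) 1
  have hca : k.Coprime (2 ^ a) := by
    rcases Nat.eq_zero_or_pos a with h | h
    · rw [h, pow_zero]; exact Nat.coprime_one_right k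
    refine Nat.Coprime.pow_right a (Nat.coprime_two_right.2 ?_)
    obtain ⟨j, hj⟩ : ∃ j, a = j + 1 := ⟨a - 1, by omega⟩
    rw [hj] at hk1
    have h2 := hk1.of_dvd (dvd_pow_self 2 (Nat.succ_ne_zero j))
    rw [Nat.odd_iff]
    rw [Nat.ModEq, pow_succ] at h2
    have := Nat.two_pow_pos j
    omega
  have hcN : k.Coprime N := by
    rw [Nat.Coprime, hk2.gcd_eq, Nat.gcd_one_left]
  refine ⟨k, hprod ▸ Nat.Coprime.mul_right hca hcN, fun g hg => ?_, fun g hg => ?_⟩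
  · have hdvd : orderOf g ∣ N := by
      refine (Nat.Coprime.dvd_of_dvd_mul_left ?_ (hprod ▸ orderOf_dvd_natCard g))
      exact (Nat.Coprime.pow_left a ((Nat.prime_two.coprime_iff_not_dvd).2 hg)).symm
    conv_rhs => rw [← pow_one g]
    exact pow_eq_pow_iff_modEq.2 (hk2.of_dvd hdvd)
  · obtain ⟨j, hj⟩ := hg
    have hdvd : orderOf g ∣ 2 ^ a := by
      rw [hj]
      exact pow_dvd_pow 2 ((Nat.prime_two.pow_dvd_iff_le_factorization hn0).1
        (hj ▸ orderOf_dvd_natCard g))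
    rw [pow_eq_pow_iff_modEq.2 (hk1.of_dvd hdvd), eq_inv_iff_mul_eq_one, ← pow_succ,
      Nat.sub_add_cancel Nat.one_le_two_pow]
    exact orderOf_dvd_iff_pow_eq_one.1 hdvd

/-- Block parts of a function on equal subgroups with equal idempotents agree. -/
theorem blockPart_transport (hM : IsPModular 2 M) {K L : Subgroup G} (hKL : K = L)
    {bK : Set (IrrCharacter K)} {bL : Set (IrrCharacter L)} (hbK : IsPBlock M bK)
    (hbL : IsPBlock M bL) (he : eA hM K bK = eA hM L bL) (f : G → ℂ) (s : K) (t : L)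
    (hst : (s : G) = t) :
    blockPart bK (fun c : K => f c) s = blockPart bL (fun c : L => f c) t := by
  subst hKL
  obtain rfl := eA_inj hM hbK hbL he
  obtain rfl : s = t := Subtype.ext hst
  rfl

theorem secFun_inv_eq {χ : G → ℂ} {k : ℕ} (hfix : ∀ g, χ (g ^ k) = χ g)
    (hodd : ∀ g : G, ¬ 2 ∣ orderOf g → g ^ k = g)
    (htwo : ∀ g : G, (∃ j : ℕ, orderOf g = 2 ^ j) → g ^ k = g⁻¹)
    {u : G} (hu : ∃ j : ℕ, orderOf u = 2 ^ j) (c : cz (Subgroup.zpowers u))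
    (hc : ¬ 2 ∣ orderOf c) : χ (u⁻¹ * (c : G)) = χ (u * (c : G)) := by
  rw [← hfix (u * (c : G)), (commute_of_mem_cz c.2).mul_pow, htwo u hu,
    hodd _ (by rwa [Subgroup.orderOf_coe])]

theorem inv_two_pow {u : G} (hu : ∃ j : ℕ, orderOf u = 2 ^ j) :
    ∃ j : ℕ, orderOf u⁻¹ = 2 ^ j := by
  simpa [orderOf_inv] using hu

theorem blockPart_secFun_inv (hM : IsPModular 2 M) {χ : G → ℂ} {k : ℕ}
    (hfix : ∀ g, χ (g ^ k) = χ g)
    (hodd : ∀ g : G, ¬ 2 ∣ orderOf g → g ^ k = g)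
    (htwo : ∀ g : G, (∃ j : ℕ, orderOf g = 2 ^ j) → g ^ k = g⁻¹)
    {u v : G} (hu : ∃ j : ℕ, orderOf u = 2 ^ j) (hv : v = u⁻¹)
    {b : Set (IrrCharacter (cz (Subgroup.zpowers u)))} (hb : IsPBlock M b)
    {b' : Set (IrrCharacter (cz (Subgroup.zpowers v)))} (hb' : IsPBlock M b')
    (he : eA hM (cz (Subgroup.zpowers v)) b' = eA hM (cz (Subgroup.zpowers u)) b)
    (s : cz (Subgroup.zpowers u)) (hs : ¬ 2 ∣ orderOf s) (t : cz (Subgroup.zpowers v))
    (hst : (t : G) = s) :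
    blockPart b' (secFun v χ) t = blockPart b (secFun u χ) s := by
  subst hv
  have hK : cz (Subgroup.zpowers u⁻¹) = cz (Subgroup.zpowers u) := by rw [Subgroup.zpowers_inv]
  rw [show secFun u⁻¹ χ = fun c : cz (Subgroup.zpowers u⁻¹) => (fun g => χ (u⁻¹ * g)) c from rfl,
    blockPart_transport hM hK hb' hb he (fun g => χ (u⁻¹ * g)) t s hst]
  exact blockPart_congr_regular hM hb (fun c hc => secFun_inv_eq hfix hodd htwo hu c hc) hs

variable {B : Set (IrrCharacter G)} {P : Subgroup G}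
variable {e : Set (IrrCharacter (Subgroup.centralizer (P : Set G)))}
variable {hM : IsPModular 2 M} {m : ℕ} {x₀ : P} {β : Set (IrrCharacter (Cx x₀))}
  {e' : Set (IrrCharacter (Subgroup.centralizer
      ((P.subgroupOf (Cx x₀) : Subgroup (Cx x₀)) : Set (Cx x₀))))}
  {ψ₀ : IrrCharacter (Cx x₀)}

namespace LocCtx

variable (L : LocCtx hM B P e m x₀ β e' ψ₀)
include L

theorem over_inv {x : P} (hx : Over x₀ x) : Over x₀ x⁻¹ := by
  obtain ⟨i, hi⟩ := hx
  exact ⟨i, by rw [inv_pow, hi, inv_eq_iff_mul_eq_one, ← pow_two, L.sq]⟩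

/-- Fixed characters have symmetric coefficients. -/
theorem coef_inv {k : ℕ} (hodd : ∀ g : G, ¬ 2 ∣ orderOf g → g ^ k = g)
    (htwo : ∀ g : G, (∃ j : ℕ, orderOf g = 2 ^ j) → g ^ k = g⁻¹)
    (hψ₀ : ∀ c : Cx x₀, (ψ₀ : Cx x₀ → ℂ) (c ^ k) = (ψ₀ : Cx x₀ → ℂ) c)
    {χ : IrrCharacter G} (hfix : ∀ g : G, (χ : G → ℂ) (g ^ k) = (χ : G → ℂ) g) {x : P}
    (hx : Over x₀ x) : coef hM β e' ψ₀ χ x⁻¹ = coef hM β e' ψ₀ χ x := by
  obtain ⟨b, hb, hle⟩ := L.exists_blk x
  obtain ⟨b', hb', hle'⟩ := L.exists_blk x⁻¹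
  have hz : Subgroup.zpowers ((x⁻¹ : P) : G) = Subgroup.zpowers (x : G) := by
    rw [Subgroup.coe_inv, Subgroup.zpowers_inv]
  have he : eA hM (cz (Subgroup.zpowers ((x⁻¹ : P) : G))) b' =
      eA hM (cz (Subgroup.zpowers (x : G))) b := by
    refine (eq_subA hM L.ctx.block L.ctx.pgroup x⁻¹ hle').trans
      (eq_subA hM L.ctx.block L.ctx.pgroup x⁻¹ ?_).symm
    rw [hz]; exact hle
  have hone : ¬ 2 ∣ orderOf (1 : cz (Subgroup.zpowers (x : G))) := by
    rw [orderOf_one]; norm_num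
  have hone' : ¬ 2 ∣ orderOf (1 : cz (Subgroup.zpowers ((x⁻¹ : P) : G))) := by
    rw [orderOf_one]; norm_num
  have h1 := blockPart_secFun_inv hM hfix hodd htwo (L.exists_pow_orderOf x)
    (Subgroup.coe_inv P x) hb hb' he 1 hone 1 rfl
  rw [L.blockPart_eq (L.over_inv hx) hb' hle' χ hone', L.blockPart_eq hx hb hle χ hone] at h1
  have hxC : ∃ j : ℕ, orderOf (L.inC x : Cx x₀) = 2 ^ j := by
    obtain ⟨j, hj⟩ := L.exists_pow_orderOf x
    exact ⟨j, (Subgroup.orderOf_coe (L.inC x : Cx x₀)).symm.trans hj⟩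
  have heC : eA hM (cz (Subgroup.zpowers ((L.inC x⁻¹ : Cx x₀))))
      (L.blkC (L.over_inv hx) b') =
        eA hM (cz (Subgroup.zpowers ((L.inC x : Cx x₀)))) (L.blkC hx b) := by
    apply inclA_injective (Cx x₀)
    rw [L.inclA_blkC, L.inclA_blkC, he]
  have h2 := blockPart_secFun_inv (χ := (ψ₀ : Cx x₀ → ℂ)) hM hψ₀
    (fun g hg => Subtype.ext (by
      rw [SubgroupClass.coe_pow]; exact hodd _ (by rwa [Subgroup.orderOf_coe])))
    (fun g hg => Subtype.ext (by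
      rw [SubgroupClass.coe_pow, Subgroup.coe_inv]
      exact htwo _ (by simpa [Subgroup.orderOf_coe] using hg)))
    hxC (show (L.inC x⁻¹ : Cx x₀) = (L.inC x : Cx x₀)⁻¹ from Subtype.ext rfl)
    (L.isPBlock_blkC hx hb) (L.isPBlock_blkC (L.over_inv hx) hb') heC 1
    (by rw [orderOf_one]; norm_num) 1 rfl
  rw [map_one, map_one, h2] at h1
  refine mul_right_cancel₀ ?_ h1
  exact blockPart_central_ne_zero hM L.inside.hmax L.mem (L.inC x) (L.inside.comm (L.inC x).2)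
    (L.isPBlock_blkC hx hb) (L.pairLE_blkC hx hb hle)

end LocCtx

end CfsgLib.HomoTwo
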