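import Cfsg.Agent.Lib.HomoTwo.Orbit
import Cfsg.Agent.Lib.HomoTwo.Symm

/-!
# The invariants of a 2-block with homocyclic defect group of rank two
-/

set_option autoImplicit false
set_option linter.unusedSectionVars false
set_option linter.style.haveILetI false

noncomputable section

namespace CfsgLib.HomoTwo

open Cfsg MonoidAlgebra CfsgLib.Blocks CfsgLib.BrauerPairs CfsgLib.BPStar CfsgLib.Characters
open scoped Classical ComplexConjugate

universe u

variable [Fact (Nat.Prime 2)] {M : Ideal AlgInt} [M.IsMaximal]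
variable {G : Type u} [Group G] [Fintype G]
variable {B : Set (IrrCharacter G)} {P : Subgroup G}
variable {e : Set (IrrCharacter (Subgroup.centralizer (P : Set G)))}
variable {hM : IsPModular 2 M} {m : ℕ}
variable {x₀ : P} {β : Set (IrrCharacter (Cx x₀))}
  {e' : Set (IrrCharacter (Subgroup.centralizer
      ((P.subgroupOf (Cx x₀) : Subgroup (Cx x₀)) : Set (Cx x₀))))}
  {ψ₀ : IrrCharacter (Cx x₀)}

namespace LocCtx

variable (L : LocCtx hM B P e m x₀ β e' ψ₀) {τ : MulAut P} (T3 : Three hM P e τ)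
include L

/-- The top coefficients against a linear character are small. -/
theorem sum_eval_sq_le (lam : P →* ℂˣ) (s : Finset (IrrCharacter G)) (z : IrrCharacter G → ℤ)
    (hz : ∀ χ ∈ s, ∑ x ∈ Finset.univ.filter (fun x : P => x ^ 2 ^ (m - 1) = x₀),
      coef hM β e' ψ₀ χ x * conj (lam x : ℂ) = (4 ^ (m - 1) : ℕ) * (z χ : ℂ)) :
    ∑ χ ∈ s, z χ ^ 2 ≤ 4 := by
  letI := commGroupOfLe L.ctx.comm
  have hH := L.homo.isHomo
  set S := Finset.univ.filter (fun x : P => x ^ 2 ^ (m - 1) = x₀) with hSdef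
  have hScard : S.card = 4 ^ (m - 1) := by
    rw [← hH.card_top L.sq]
    exact congrArg Finset.card (Finset.ext fun x => by simp [S, hH.mem_top])
  set v : IrrCharacter G → ℂ := fun χ => ∑ x ∈ S, coef hM β e' ψ₀ χ x * conj (lam x : ℂ)
  have htot : ∑ χ : IrrCharacter G, v χ * conj (v χ) = ((4 ^ m * 4 ^ (m - 1) : ℕ) : ℂ) := by
    calc ∑ χ : IrrCharacter G, v χ * conj (v χ)
        = ∑ x ∈ S, ∑ y ∈ S, conj (lam x : ℂ) * (lam y : ℂ) *
            ∑ χ : IrrCharacter G, coef hM β e' ψ₀ χ x * conj (coef hM β e' ψ₀ χ y) := by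
          simp only [v, map_sum, map_mul, Complex.conj_conj, Finset.sum_mul_sum]
          simp only [Finset.mul_sum]
          rw [Finset.sum_comm]
          refine Finset.sum_congr rfl fun x _ => ?_
          rw [Finset.sum_comm]
          exact Finset.sum_congr rfl fun y _ => Finset.sum_congr rfl fun φ _ => by ring
      _ = ∑ x ∈ S, (Nat.card P : ℂ) := by
          refine Finset.sum_congr rfl fun x hx => ?_
          have hox := L.over_of_pow (Finset.mem_filter.1 hx).2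
          rw [Finset.sum_eq_single x]
          · rw [L.col_orth hox hox, if_pos rfl, Homo949.conj_hom, ← Units.val_mul, ← map_mul,
              inv_mul_cancel, map_one, Units.val_one, one_mul]
          · intro y hy hne
            rw [L.col_orth hox (L.over_of_pow (Finset.mem_filter.1 hy).2), if_neg (Ne.symm hne),
              mul_zero]
          · exact fun h => absurd hx h
      _ = _ := by
          rw [Finset.sum_const, hScard, L.card_P, nsmul_eq_mul]
          push_cast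
          ring
  have h1 : ∑ χ : IrrCharacter G, Complex.normSq (v χ) = ((4 ^ m * 4 ^ (m - 1) : ℕ) : ℝ) := by
    have h2 : ((∑ χ : IrrCharacter G, Complex.normSq (v χ) : ℝ) : ℂ) =
        (((4 ^ m * 4 ^ (m - 1) : ℕ) : ℝ) : ℂ) := by
      rw [Complex.ofReal_sum, Complex.ofReal_natCast, ← htot]
      exact Finset.sum_congr rfl fun φ _ => (Complex.mul_conj _).symm
    exact_mod_cast h2
  have h3 : ∑ χ ∈ s, Complex.normSq (v χ) ≤ ((4 ^ m * 4 ^ (m - 1) : ℕ) : ℝ) := by
    rw [← h1]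
    exact Finset.sum_le_univ_sum_of_nonneg fun χ => Complex.normSq_nonneg _
  have h4 : ∀ χ ∈ s, Complex.normSq (v χ) = ((4 ^ (m - 1) : ℕ) : ℝ) ^ 2 * (z χ : ℝ) ^ 2 := by
    intro χ hχ
    simp only [v]
    rw [hz χ hχ, map_mul, Complex.normSq_natCast, Complex.normSq_intCast]
    ring
  rw [Finset.sum_congr rfl h4, ← Finset.mul_sum] at h3
  have hm : (4 : ℝ) ^ m = 4 * 4 ^ (m - 1) := by
    rw [← pow_succ', Nat.sub_add_cancel (by have := hH.two_le; omega)]
  push_cast at h3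
  rw [hm, mul_assoc, ← pow_two, mul_comm (4 : ℝ)] at h3
  have h5 : (∑ χ ∈ s, (z χ : ℝ) ^ 2) ≤ 4 := le_of_mul_le_mul_left h3 (by positivity)
  exact_mod_cast h5

include T3

/-- The fixed members are at most eight. -/
theorem blockRank_le_eight {k : ℕ} (hk : k.Coprime (Nat.card G))
    (hodd : ∀ g : G, ¬ 2 ∣ orderOf g → g ^ k = g)
    (htwo : ∀ g : G, (∃ j : ℕ, orderOf g = 2 ^ j) → g ^ k = g⁻¹)
    (hψ₀ : ∀ c : Cx x₀, (ψ₀ : Cx x₀ → ℂ) (c ^ k) = (ψ₀ : Cx x₀ → ℂ) c) :
    blockRank 2 B ≤ 8 := by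
  letI := commGroupOfLe L.ctx.comm
  have hH := L.homo.isHomo
  refine (SectionGalois.blockRank_le_card_fixed hM L.ctx.isPBlockB hk hodd).trans ?_
  rw [Nat.card_eq_fintype_card, Fintype.card_subtype]
  set s := Finset.univ.filter
    (fun χ : IrrCharacter G => χ ∈ B ∧ ∀ g : G, (χ : G → ℂ) (g ^ k) = (χ : G → ℂ) g) with hs
  have htop : hH.top x₀ = Finset.univ.filter (fun x : P => x ^ 2 ^ (m - 1) = x₀) :=
    Finset.ext fun x => by simp [hH.mem_top]
  refine hH.card_le_eight T3.order L.ne L.sq s (fun χ => mult hM β e' ψ₀ χ)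
    (fun χ hχ => L.odd_total (Finset.mem_filter.1 hχ).2.1)
    (fun χ hχ x hx => L.coef_inv hodd htwo hψ₀ (Finset.mem_filter.1 hχ).2.2
      (L.over_of_pow (hH.mem_top.1 hx)))
    (fun lam z hz => L.sum_eval_sq_le lam s z fun χ hχ => ?_)
    (fun lam ν hν hνtop χ hχ ψ hψ => ?_)
  · rw [← htop]; exact hz χ hχ
  · rw [htop]
    exact L.isIntegral_top T3 lam ν hν (fun x hx => hνtop x (hH.mem_top.2 hx))
      (Finset.mem_filter.1 hχ).2.1

/-- The number of subsections away from the identity. -/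
theorem card_sub_rank_eq :
    ∃ r : ℕ, 3 * r + 1 = 4 ^ m ∧ (Nat.card B : ℤ) - (blockRank 2 B : ℤ) = r := by
  letI := commGroupOfLe L.ctx.comm
  have hH := L.homo.isHomo
  set Rp := Finset.univ.filter (fun x : P => Over x₀ x) with hRp
  have hne : ∀ x ∈ Rp, x ≠ 1 := fun x hx h1 => by
    obtain ⟨i, hi⟩ := (Finset.mem_filter.1 hx).2
    rw [h1, one_pow] at hi
    exact L.ne hi.symm
  have hfix : ∀ (x : P) (k : ℕ), x ≠ 1 → (τ ^ k) x = x → 3 ∣ k := by
    intro x k hx hkx
    by_contra hk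
    have h1 : τ ^ k = τ ^ (k % 3) := by rw [← T3.order, pow_mod_orderOf]
    rw [h1] at hkx
    rcases (show k % 3 = 1 ∨ k % 3 = 2 by omega) with h | h <;> rw [h] at hkx
    · rw [pow_one] at hkx
      exact hH.aut_ne_self T3.order hx hkx
    · refine hH.aut_ne_self T3.order hx ?_
      have h2 : τ (τ x) = x := by simpa [pow_succ, MulAut.mul_apply] using hkx
      conv_lhs => rw [← h2]
      rw [T3.cube]
  have hcov : ∀ v : P, v ≠ 1 → ∃ k : ℕ, k < 3 ∧ (τ ^ k) v ∈ Rp := by
    intro v hv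
    obtain ⟨i, -, hu2, hu1⟩ := hH.exists_pow_involution hv
    obtain ⟨k, hk, hkx⟩ := L.exists_translate T3 hu2 hu1
    exact ⟨k, hk, Finset.mem_filter.2 ⟨Finset.mem_univ _, i, by rw [← map_pow]; exact hkx⟩⟩
  have hinv : ∀ k, k < 3 → (τ ^ k)⁻¹ = τ ^ (3 - k) := fun k hk => by
    rw [inv_eq_iff_mul_eq_one, ← pow_add, Nat.add_sub_cancel' hk.le, ← T3.order,
      pow_orderOf_eq_one]
  have hcount : 3 * Rp.card + 1 = 4 ^ m := by
    rw [← hH.card, Nat.card_eq_fintype_card, ← Finset.card_univ,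
      ← Finset.card_erase_add_one (Finset.mem_univ (1 : P)), mul_comm,
      ← Finset.card_range 3, ← Finset.card_product]
    congr 1
    refine Finset.card_bij (fun q _ => (τ ^ q.2) q.1) (fun q hq => ?_) (fun q hq q' hq' h => ?_)
      fun v hv => ?_
    · refine Finset.mem_erase.2 ⟨?_, Finset.mem_univ _⟩
      simpa using hne _ (Finset.mem_product.1 hq).1
    · obtain ⟨hq1, hq2⟩ := Finset.mem_product.1 hq
      obtain ⟨hq1', hq2'⟩ := Finset.mem_product.1 hq'
      rw [Finset.mem_range] at hq2 hq2'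
      have h1 : q'.1 = (τ ^ (3 - q'.2 + q.2)) q.1 := by
        rw [pow_add, MulAut.mul_apply, h, ← MulAut.mul_apply, ← pow_add,
          Nat.sub_add_cancel hq2'.le, ← T3.order, pow_orderOf_eq_one, MulAut.one_apply]
      obtain ⟨t, ht, htx⟩ := T3.exists_stab (3 - q'.2 + q.2)
      have h2 : q.1 = q'.1 := L.eq_of_stab (Finset.mem_filter.1 hq1).2 (Finset.mem_filter.1 hq1').2
        ht (by rw [htx, h1])
      refine Prod.ext h2 ?_
      have h3 := hfix q.1 _ (hne _ hq1) (h1.symm.trans h2.symm)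
      omega
    · obtain ⟨k, hk, hkv⟩ := hcov v (Finset.mem_erase.1 hv).1
      refine ⟨((τ ^ k) v, (3 - k) % 3), Finset.mem_product.2 ⟨hkv, Finset.mem_range.2 (Nat.mod_lt _
        (by norm_num))⟩, ?_⟩
      show (τ ^ ((3 - k) % 3)) ((τ ^ k) v) = v
      rw [← T3.order, pow_mod_orderOf, T3.order, ← hinv k hk, MulAut.inv_apply_self]
  refine ⟨Rp.card, hcount, ?_⟩
  rw [← Finset.card_map ⟨fun x : P => (x : G), Subtype.val_injective⟩]
  refine KleinDefect.card_sub_rank hM L.ctx.isPBlockB L.ctx.defect L.ctx.comm L.ctx.block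
    L.ctx.cover (T := pairStab P (eA hM (cz P) e)) (fun g => Iff.rfl) ?_ _ ?_ ?_ ?_
  · intro x hx hx1 f hf hdf
    haveI : Fintype (Subgroup.centralizer ({x} : Set G)) := Fintype.ofFinite _
    have hle : P ≤ Subgroup.centralizer ({x} : Set G) := fun y hy =>
      Subgroup.mem_centralizer_singleton_iff.2 (mem_cz.1 (L.ctx.comm hy) x hx).symm
    refine rank_one_of_central (hM := hM) hf hdf (L.homo.of_equiv (Subgroup.subgroupOfEquivOfLe hle))
      (z := ⟨⟨x, hle hx⟩, hx⟩) (fun h => hx1 (congrArg (fun w : P.subgroupOf _ => ((w :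
        Subgroup.centralizer ({x} : Set G)) : G)) h)) ?_
    rw [Subgroup.mem_center_iff]
    intro g
    exact Subtype.ext (Subgroup.mem_centralizer_singleton_iff.1 g.2)
  · intro r hr
    obtain ⟨x, hx, rfl⟩ := Finset.mem_map.1 hr
    exact ⟨x.2, fun h => hne x hx (Subtype.ext h)⟩
  · intro v hv hv1
    obtain ⟨k, hk, hkv⟩ := hcov ⟨v, hv⟩ fun h => hv1 (congrArg Subtype.val h)
    obtain ⟨t, ht, htx⟩ := T3.exists_stab (3 - k)
    refine ⟨t, ht, _, Finset.mem_map.2 ⟨_, hkv, rfl⟩, ?_⟩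
    rw [Function.Embedding.coeFn_mk, htx, ← hinv k hk, MulAut.inv_apply_self]
  · intro r hr r' hr' t ht htr
    obtain ⟨x, hx, rfl⟩ := Finset.mem_map.1 hr
    obtain ⟨y, hy, rfl⟩ := Finset.mem_map.1 hr'
    exact congrArg Subtype.val
      (L.eq_of_stab (Finset.mem_filter.1 hx).2 (Finset.mem_filter.1 hy).2 ht htr)

end LocCtx

omit [M.IsMaximal] in
/-- The two possibilities. -/
theorem invariants [M.IsMaximal] (hM : IsPModular 2 M) {B : Set (IrrCharacter G)}
    (hB : IsPBlock M B) {D : Subgroup G} (hD : IsDefectGroup 2 M B D) {m : ℕ}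
    (hD' : IsHomoGroup D m) :
    (blockRank 2 B = 1 ∧ Nat.card B = 4 ^ m) ∨
      (blockRank 2 B = 3 ∧ 3 * Nat.card B = 4 ^ m + 8) := by
  obtain ⟨e, he⟩ := NilBlk.exists_maximalPair hM hB hD
  have c : AbCtx hM B D e := ⟨he, hD'.comm⟩
  letI := commGroupOfLe c.comm
  have hH := hD'.isHomo
  obtain ⟨x₀, hx2, hx1⟩ := hH.exists_involution
  rcases relIndex_pairStab c hD' with h1 | h3
  · left
    have hnil := nilCtx_of_fix c hD' hx1 fun t ht => by
      rw [← mem_cz.1 (Subgroup.relIndex_eq_one.1 h1 ht) x₀ x₀.2, mul_inv_cancel_right]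
    obtain ⟨hl, hk, -⟩ := invariants_of_nilCtx c hnil
    exact ⟨hl, hk.trans hH.card⟩
  · right
    obtain ⟨β, e', hin, hincl, hcov⟩ := c.exists_inside x₀ (H := Cx x₀) rfl
    obtain ⟨k, hk, hodd, htwo⟩ := exists_flip G
    have hkC : k.Coprime (Nat.card (Cx x₀)) :=
      Nat.Coprime.coprime_dvd_right (Subgroup.card_subgroup_dvd_card _) hk
    have hne := (CyclicDefectBound.one_le_blockRank hM hin.isPBlockB).trans
      (SectionGalois.blockRank_le_card_fixed hM hin.isPBlockB hkC fun g hg => Subtype.ext (by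
        rw [SubgroupClass.coe_pow]; exact hodd _ (by rwa [Subgroup.orderOf_coe])))
    obtain ⟨⟨ψ₀, hψB, hψfix⟩⟩ := (Nat.card_pos_iff.1 (Nat.lt_of_lt_of_le Nat.zero_lt_one hne)).1
    have L : LocCtx hM B D e m x₀ β e' ψ₀ := ⟨c, hD', hx2, hx1, hin, hincl, hcov, hψB⟩
    obtain ⟨τ, T3⟩ := exists_three c h3
    obtain ⟨r, hr, hkl⟩ := L.card_sub_rank_eq T3
    have h8 := L.eight_dvd_card
    have hle := L.blockRank_le_eight T3 hk hodd htwo hψfix
    have h4 : 8 ∣ 4 ^ m := by
      obtain ⟨j, hj⟩ := Nat.exists_eq_add_of_le hD'.1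
      exact ⟨2 * 4 ^ j, by rw [hj, pow_add]; ring⟩
    generalize 4 ^ m = Q at hr h4 ⊢
    omega

end CfsgLib.HomoTwo
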