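import Cfsg.Agent.Lib.HomoTwo.Height
import Cfsg.Agent.Lib.HomoTwo.Cross

/-!
# An inertial group of index three
-/

set_option autoImplicit false
set_option linter.unusedSectionVars false
set_option linter.style.haveILetI false

noncomputable section

namespace CfsgLib.HomoTwo

open Cfsg MonoidAlgebra CfsgLib.Blocks CfsgLib.BrauerPairs CfsgLib.BPStar CfsgLib.Characters
open scoped Classical ComplexConjugate

universe u

variable [Fact (Nat.Prime 2)] {M : Ideal AlgInt} [M.IsMaximal]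
variable {G : Type u} [Group G] [Fintype G]
variable {B : Set (IrrCharacter G)} {P : Subgroup G}
variable {e : Set (IrrCharacter (Subgroup.centralizer (P : Set G)))}
variable {hM : IsPModular 2 M} {m : ℕ}

/-- A generator of the automorphisms induced by the stabiliser. -/
structure Three (hM : IsPModular 2 M) (P : Subgroup G)
    (e : Set (IrrCharacter (Subgroup.centralizer (P : Set G)))) (τ : MulAut P) : Prop where
  order : orderOf τ = 3
  exists_stab : ∀ k : ℕ, ∃ t ∈ pairStab P (eA hM (cz P) e),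
    ∀ x : P, t * (x : G) * t⁻¹ = ((τ ^ k) x : P)
  of_stab : ∀ t ∈ pairStab P (eA hM (cz P) e), ∃ k : ℕ, k < 3 ∧
    ∀ x : P, t * (x : G) * t⁻¹ = ((τ ^ k) x : P)

theorem exists_three (c : AbCtx hM B P e)
    (h3 : (cz P).relIndex (pairStab P (eA hM (cz P) e)) = 3) : ∃ τ, Three hM P e τ := by
  rw [← card_range_pairAut c] at h3
  obtain ⟨τ, hτ⟩ := exists_prime_orderOf_dvd_card' (G := (pairAut hM P e).range) 3 (h3 ▸ dvd_rfl)
  have hgen : ∀ a : (pairAut hM P e).range, a ∈ Subgroup.zpowers τ := fun a => by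
    rw [show Subgroup.zpowers τ = ⊤ from Subgroup.eq_top_of_card_eq _ (by
      rw [Nat.card_zpowers, hτ, h3])]
    trivial
  refine ⟨(τ : MulAut P), ⟨by rw [Subgroup.orderOf_coe]; exact hτ, fun k => ?_, fun t ht => ?_⟩⟩
  · obtain ⟨t, ht⟩ := (τ ^ k).2
    refine ⟨(t : G), t.2, fun x => ?_⟩
    have h1 := congrArg Subtype.val (DFunLike.congr_fun ht x)
    rw [coe_pairAut, SubgroupClass.coe_pow] at h1
    exact h1
  · have hmem := hgen ⟨pairAut hM P e ⟨t, ht⟩, ⟨t, ht⟩, rfl⟩
    rw [mem_zpowers_iff_mem_range_orderOf, hτ, Finset.mem_image] at hmem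
    obtain ⟨k, hk, hke⟩ := hmem
    refine ⟨k, Finset.mem_range.1 hk, fun x => ?_⟩
    rw [← SubgroupClass.coe_pow, hke]
    rfl

namespace Three

variable {τ : MulAut P} (T3 : Three hM P e τ)
include T3

theorem cube (x : P) : τ (τ (τ x)) = x := by
  have h1 : (τ ^ 3) x = x := by rw [← T3.order, pow_orderOf_eq_one, MulAut.one_apply]
  simpa [pow_succ, MulAut.mul_apply] using h1

/-- Functions invariant under the generator are stable. -/
theorem stabCtx (c : AbCtx hM B P e) {f : P → ℂ} (hf : ∀ x, f (τ x) = f x) :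
    StabCtx hM B P e f := by
  refine stabCtx_of_abelian c fun t ht x y hxy => ?_
  obtain ⟨k, -, hk⟩ := T3.of_stab t ht
  have hy : y = (τ ^ k) x := Subtype.ext (hxy.symm.trans (hk x))
  rw [hy]
  clear hk hy
  induction k with
  | zero => simp
  | succ k ih => rw [pow_succ', MulAut.mul_apply, hf, ih]

end Three

namespace LocCtx

variable {x₀ : P} {β : Set (IrrCharacter (Cx x₀))}
  {e' : Set (IrrCharacter (Subgroup.centralizer
      ((P.subgroupOf (Cx x₀) : Subgroup (Cx x₀)) : Set (Cx x₀))))}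
  {ψ₀ : IrrCharacter (Cx x₀)}
variable (L : LocCtx hM B P e m x₀ β e' ψ₀) {τ : MulAut P} (T3 : Three hM P e τ)
include L

theorem eq_of_stab {x y : P} (hx : Over x₀ x) (hy : Over x₀ y) {t : G}
    (ht : t ∈ pairStab P (eA hM (cz P) e)) (htx : t * (x : G) * t⁻¹ = y) : x = y := by
  obtain ⟨i, hi⟩ := hx
  obtain ⟨j, hj⟩ := hy
  have hx2 : (x₀ : G) ^ 2 = 1 := congrArg Subtype.val L.sq
  have hne : (x₀ : G) ≠ 1 := fun h => L.ne (Subtype.ext h)
  have h1 : (y : G) ^ 2 ^ i = t * x₀ * t⁻¹ := by rw [← htx, conj_pow, L.coe_pow_of_over hi]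
  have h2 : t * (x₀ : G) * t⁻¹ = x₀ := IsHomo.pow_eq_unique h1 (L.coe_pow_of_over hj)
    (by rw [conj_pow, hx2, mul_one, mul_inv_cancel]) hx2
    (fun h => hne (conj_eq_one_iff.1 h)) hne
  have hc := mem_cz_of_fix L.ctx L.homo ht L.ne h2
  exact Subtype.ext (by rw [← htx, ← mem_cz.1 hc x x.2, mul_inv_cancel_right])

include T3

/-- The three involutions are fused. -/
theorem exists_translate {u : P} (hu2 : u ^ 2 = 1) (hu1 : u ≠ 1) :
    ∃ k : ℕ, k < 3 ∧ (τ ^ k) u = x₀ := by
  letI := commGroupOfLe L.ctx.comm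
  have hH := L.homo.isHomo
  by_contra hcon
  simp only [not_exists, not_and] at hcon
  have h0 : u ≠ x₀ := by simpa using hcon 0 (by norm_num)
  have h1 : τ u ≠ x₀ := by simpa using hcon 1 (by norm_num)
  have h2 : τ (τ u) ≠ x₀ := by simpa [pow_succ, MulAut.mul_apply] using hcon 2 (by norm_num)
  have a1 : τ u ≠ u := hH.aut_ne_self T3.order hu1
  have a2 : τ (τ u) ≠ τ u := fun h => a1 (τ.injective h)
  have a3 : τ (τ u) ≠ u := fun h => a1 (by
    conv_lhs => rw [← h]
    rw [T3.cube])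
  have hc : Nat.card {w : P // w ^ 2 = 1} = 4 := hH.card_sq
  have hsub : ({1, x₀, u, τ u, τ (τ u)} : Finset P) ⊆ Finset.univ.filter fun w : P => w ^ 2 = 1 := by
    intro w hw
    simp only [Finset.mem_insert, Finset.mem_singleton] at hw
    rcases hw with rfl | rfl | rfl | rfl | rfl <;> simp [L.sq, hu2, ← map_pow]
  have h5 := Finset.card_le_card hsub
  rw [← Fintype.card_subtype, ← Nat.card_eq_fintype_card, hc] at h5
  have e1 : τ u ≠ 1 := by simpa using hu1
  have e2 : τ (τ u) ≠ 1 := by simpa using hu1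
  simp [Finset.card_insert_of_notMem, Ne.symm L.ne, Ne.symm hu1, Ne.symm e1, Ne.symm e2,
    Ne.symm h0, Ne.symm h1, Ne.symm h2, Ne.symm a1, Ne.symm a2, Ne.symm a3] at h5

/-- The difference of two stable functions gives integral pairings over the top. -/
theorem isIntegral_top (lam ν : P →* ℂˣ) (hν : ν ^ 2 = 1)
    (hνtop : ∀ x : P, x ^ 2 ^ (m - 1) = x₀ →
      (ν x : ℂ) = 1 ∧ (ν (τ x) : ℂ) = -1 ∧ (ν (τ (τ x)) : ℂ) = -1)
    {χ ψ : IrrCharacter G} (hχ : χ ∈ B) :
    IsIntegral ℤ ((Nat.card P : ℂ)⁻¹ *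
      ∑ x ∈ Finset.univ.filter (fun x : P => x ^ 2 ^ (m - 1) = x₀),
        2 * ((lam (τ x) : ℂ) + (lam (τ (τ x)) : ℂ)) *
          (coef hM β e' ψ₀ χ x * conj (coef hM β e' ψ₀ ψ x))) := by
  have := charP_res hM
  letI := commGroupOfLe L.ctx.comm
  have hH := L.homo.isHomo
  set c := L.ctx
  let F : (P →* ℂˣ) → P → ℂ := fun l x => (l x : ℂ) + (l (τ x) : ℂ) + (l (τ (τ x)) : ℂ)
  have hFinv : ∀ l x, F l (τ x) = F l x := fun l x => by simp only [F, T3.cube]; ring
  have hFc : ∀ l, IsCharacter P (F l) := fun l =>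
    isCharacter_add (isCharacter_add (isCharacter_of_irr (isIrrCharacter_of_hom l))
      (isCharacter_of_irr (isIrrCharacter_of_hom (l.comp τ.toMonoidHom))))
      (isCharacter_of_irr (isIrrCharacter_of_hom (l.comp (τ.toMonoidHom.comp τ.toMonoidHom))))
  have hF : ∀ l, StabCtx hM B P e (F l) := fun l => T3.stabCtx c (hFinv l)
  set l' : P →* ℂˣ := lam * ν with hl'
  set η : P → ℂ := fun x => F lam x - F l' x with hη
  set S := Finset.univ.filter (fun x : P => x ^ 2 ^ (m - 1) = x₀)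
  have hηtop : ∀ x ∈ S, η x = 2 * ((lam (τ x) : ℂ) + (lam (τ (τ x)) : ℂ)) := fun x hx => by
    obtain ⟨e0, e1, e2⟩ := hνtop x (Finset.mem_filter.1 hx).2
    simp only [hη, F, hl', MonoidHom.mul_apply, Units.val_mul, e0, e1, e2]
    ring
  have hηinv : ∀ x, η (τ x) = η x := fun x => by simp only [hη, hFinv]
  have hηsupp : ∀ z : P, η z ≠ 0 → ∃ k : ℕ, k < 3 ∧ (τ ^ k) z ∈ S := by
    intro z hz
    have hu : z ^ 2 ^ (m - 1) ≠ 1 := by
      intro h1
      apply hz
      obtain ⟨w, rfl⟩ := (hH.pw_iff z).1 h1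
      have hsq : ∀ v : P, (ν (v ^ 2) : ℂ) = 1 := fun v => by
        rw [map_pow, ← MonoidHom.pow_apply, hν, MonoidHom.one_apply, Units.val_one]
      simp only [hη, F, hl', MonoidHom.mul_apply, Units.val_mul, map_pow τ, hsq, mul_one, sub_self]
    have hu2 : (z ^ 2 ^ (m - 1)) ^ 2 = 1 := by rw [← pow_mul, hH.two_pow_pred, hH.pow_top]
    obtain ⟨k, hk, hkx⟩ := L.exists_translate T3 hu2 hu
    exact ⟨k, hk, Finset.mem_filter.2 ⟨Finset.mem_univ _, by rw [← map_pow]; exact hkx⟩⟩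
  have hηpow : ∀ k z, η ((τ ^ k) z) = η z := fun k z => by
    induction k with
    | zero => simp
    | succ k ih => rw [pow_succ', MulAut.mul_apply, hηinv, ih]
  have hint : IsIntegral ℤ
      (classInner (NilBlk.starC hM B P e (F lam) (χ : G → ℂ)) (ψ : G → ℂ) -
        classInner (NilBlk.starC hM B P e (F l') (χ : G → ℂ)) (ψ : G → ℂ)) :=
    (isIntegral_classInner_starC hM (hF lam) (hFc lam) hχ ψ).sub
      (isIntegral_classInner_starC hM (hF l') (hFc l') hχ ψ)
  suffices hval : classInner (NilBlk.starC hM B P e (F lam) (χ : G → ℂ)) (ψ : G → ℂ) -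
      classInner (NilBlk.starC hM B P e (F l') (χ : G → ℂ)) (ψ : G → ℂ) =
      (Nat.card P : ℂ)⁻¹ * ∑ x ∈ S, η x *
        (coef hM β e' ψ₀ χ x * conj (coef hM β e' ψ₀ ψ x)) by
    rw [hval, Finset.sum_congr rfl fun x hx => by rw [hηtop x hx]] at hint
    exact hint
  set φ : G → MonoidAlgebra (ResK M) G → ℂ := fun u b =>
    (NilBlk.wC hM P e (F lam) u b - NilBlk.wC hM P e (F l') u b) *
      crs hM (χ : G → ℂ) (ψ : G → ℂ) u b with hφ
  have hwη : ∀ {g u : G} {b : MonoidAlgebra (ResK M) G}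
      (hg : PairLE 2 (conjPair g (Subgroup.zpowers u, b)) (P, eA hM (cz P) e)),
      NilBlk.wC hM P e (F lam) u b - NilBlk.wC hM P e (F l') u b =
        η ⟨g * u * g⁻¹, mem_of_pairLE hg⟩ := fun {g u b} hg => by
    rw [wC_eq (hF lam) (isClassFunction_of_isCharacter (hFc lam)) hg,
      wC_eq (hF l') (isClassFunction_of_isCharacter (hFc l')) hg]
  have key := sum_pairs_transversal c S (fun x hx y hy t ht htx => L.eq_of_stab
      (L.over_of_pow (Finset.mem_filter.1 hx).2) (L.over_of_pow (Finset.mem_filter.1 hy).2) ht htx)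
    φ (fun t u b hu hb => by
      simp only [hφ, wC_conj (hF lam) (isClassFunction_of_isCharacter (hFc lam)),
        wC_conj (hF l') (isClassFunction_of_isCharacter (hFc l')),
        crs_conj (irr_isCharacter χ) (irr_isCharacter ψ) hu hb])
    (fun u b hne => by
      have hex : ∃ g : G, PairLE 2 (conjPair g (Subgroup.zpowers u, b)) (P, eA hM (cz P) e) := by
        by_contra hcon
        simp only [hφ, NilBlk.wC_eq_zero hcon, sub_self, zero_mul] at hne
        exact hne rfl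
      obtain ⟨g, hg⟩ := hex
      have hη0 : η ⟨g * u * g⁻¹, mem_of_pairLE hg⟩ ≠ 0 := by
        rw [← hwη hg]
        exact left_ne_zero_of_mul hne
      obtain ⟨k, -, hkS⟩ := hηsupp _ hη0
      obtain ⟨t, ht, htx⟩ := T3.exists_stab k
      set z : P := ⟨g * u * g⁻¹, mem_of_pairLE hg⟩
      set x : P := (τ ^ k) z
      have htz : t * (g * u * g⁻¹) * t⁻¹ = x := htx z
      refine ⟨(t * g)⁻¹, x, hkS, ?_, ?_⟩
      · rw [← htz]; group
      · have h1 := hg.conj t
        rw [show conjPair t (P, eA hM (cz P) e) = (P, eA hM (cz P) e) from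
          Prod.ext (map_conj_eq_self ht.1) ht.2, conjPair_eq_zpowers, conjPair_eq_zpowers, htz] at h1
        rw [← eq_subA hM c.block c.pgroup x h1, ← conjA_mul_left, ← conjA_mul_left,
          show (t * g)⁻¹ * t * g = 1 by group, conjA_one_left])
  have hG : (Nat.card G : ℂ) ≠ 0 := Nat.cast_ne_zero.2 Nat.card_pos.ne'
  rw [classInner, classInner, ← mul_sub, sum_starC_cross (hF lam) hχ ψ,
    sum_starC_cross (hF l') hχ ψ, ← Finset.sum_sub_distrib]
  rw [Finset.sum_congr rfl fun u _ => show _ = ∑ b ∈ blocksAt hM u, φ u b by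
      rw [← Finset.sum_sub_distrib]
      exact Finset.sum_congr rfl fun b _ => (sub_mul _ _ _).symm,
    key, inv_mul_cancel_left₀ hG, Finset.mul_sum]
  refine Finset.sum_congr rfl fun x hx => ?_
  obtain ⟨b, hb, hle⟩ := L.exists_blk x
  rw [← eq_subA hM c.block c.pgroup x hle]
  have hle1 : PairLE 2 (conjPair (1 : G) (Subgroup.zpowers (x : G),
      eA hM (cz (Subgroup.zpowers (x : G))) b)) (P, eA hM (cz P) e) := by
    rw [conjPair_one]; exact hle
  simp only [hφ]
  rw [hwη hle1, crs_eA (irr_isCharacter χ) (irr_isCharacter ψ) (L.exists_pow_orderOf x) hb,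
    ← L.pairing (L.over_of_pow (Finset.mem_filter.1 hx).2) hb hle χ ψ,
    show (⟨1 * (x : G) * 1⁻¹, mem_of_pairLE hle1⟩ : P) = x from Subtype.ext (by simp)]
  have hP : (Nat.card P : ℂ) ≠ 0 := Nat.cast_ne_zero.2 Nat.card_pos.ne'
  field_simp

end LocCtx

end CfsgLib.HomoTwo
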