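import Cfsg.Agent.Lib.NilBlk.Integrality
import Cfsg.Agent.Lib.BPStar.Abelian

/-!
# Products of the block by stable characters of the defect group

Without nilpotency a character of the defect group that is constant on the fused pairs still gives
a product with integral multiplicities.
-/

set_option autoImplicit false
set_option linter.unusedSectionVars false
set_option linter.unusedVariables false

noncomputable section

namespace CfsgLib.HomoTwo

open Cfsg MonoidAlgebra CfsgLib.Blocks CfsgLib.BrauerPairs CfsgLib.BPStar CfsgLib.Characters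
open CfsgLib.NilBlk hiding wC_eq wC_conj isTwistC_wC wC_transfer starC_transfer isClassFunction_starC wC_spec starC_sec_expand starC_mem_rootField classInner_res_nilpotent classInner_starC_local isIntegral_classInner_starC
open scoped Classical ComplexConjugate

universe u

variable {p : ℕ} [Fact p.Prime] {M : Ideal AlgInt} [M.IsMaximal]
variable {G : Type u} [Group G] [Fintype G]
variable {B : Set (IrrCharacter G)} {P : Subgroup G}
variable {e : Set (IrrCharacter (Subgroup.centralizer (P : Set G)))} {f : P → ℂ}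

/-- A function on the defect group constant on the fused pairs. -/
structure StabCtx (hM : IsPModular p M) (B : Set (IrrCharacter G)) (P : Subgroup G)
    (e : Set (IrrCharacter (Subgroup.centralizer (P : Set G)))) (f : P → ℂ) : Prop where
  star : StarCtx hM B P e 1
  stable : ∀ (u g g' : G) (b : MonoidAlgebra (ResK M) G),
    PairLE p (conjPair g (Subgroup.zpowers u, b)) (P, eA hM (cz P) e) →
    PairLE p (conjPair g' (Subgroup.zpowers u, b)) (P, eA hM (cz P) e) →
      extC f (g' * u * g'⁻¹) = extC f (g * u * g⁻¹)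

variable {hM : IsPModular p M}

theorem StabCtx.transfer {M' : Ideal AlgInt} [M'.IsMaximal] (hM' : IsPModular p M')
    (h : StabCtx hM B P e f) : StabCtx hM' B P e f := by
  have hs' := h.star.transfer hM'
  refine ⟨hs', fun u g g' b' h1 h2 => ?_⟩
  obtain ⟨b, hb, rfl⟩ := exists_eA_eq hM' (block_of_conjPair_pairLE hs'.block h1)
  have hb0 := isPBlock_transfer hM' hM hb
  have key : ∀ t : G, PairLE p (conjPair t (Subgroup.zpowers u,
      eA hM' (cz (Subgroup.zpowers u)) b)) (P, eA hM' (cz P) e) →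
      PairLE p (conjPair t (Subgroup.zpowers u, eA hM (cz (Subgroup.zpowers u)) b))
        (P, eA hM (cz P) e) := fun t ht => by
    rw [pairLE_conjPair_iff hM hb0 h.star.isPBlock]
    exact subpairLE_transfer hM' hM ((pairLE_conjPair_iff hM' hb hs'.isPBlock t).1 ht)
  exact h.stable u g g' (eA hM (cz (Subgroup.zpowers u)) b) (key g h1) (key g' h2)

/-- A function invariant under the stabiliser of the pair is stable. -/
theorem stabCtx_of_abelian (c : AbCtx hM B P e)
    (hf : ∀ t ∈ pairStab P (eA hM (cz P) e), ∀ x y : P, t * (x : G) * t⁻¹ = y → f y = f x) :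
    StabCtx hM B P e f := by
  refine ⟨starCtx_trivial hM c.hmax, fun u g g' b h1 h2 => ?_⟩
  have hx := mem_of_pairLE h1
  have hy := mem_of_pairLE h2
  rw [extC, dif_pos hy, extC, dif_pos hx]
  have hgx : conjA g b = subA p P (eA hM (cz P) e) (g * u * g⁻¹) :=
    eq_subA hM c.block c.pgroup ⟨_, hx⟩ (by rw [← conjPair_eq_zpowers]; exact h1)
  have hgy : conjA g' b = subA p P (eA hM (cz P) e) (g' * u * g'⁻¹) :=
    eq_subA hM c.block c.pgroup ⟨_, hy⟩ (by rw [← conjPair_eq_zpowers]; exact h2)
  obtain ⟨t, ht, htx⟩ := c.mem_clsOf_iff.1 (mem_clsOf.2 ⟨g' * g⁻¹,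
    show g' * g⁻¹ * (g * u * g⁻¹) * (g' * g⁻¹)⁻¹ = g' * u * g'⁻¹ by group, by
      show conjA (g' * g⁻¹) (subA p P _ (g * u * g⁻¹)) = subA p P _ (g' * u * g'⁻¹)
      rw [← hgx, ← conjA_mul_left, inv_mul_cancel_right, hgy]⟩ :
      (⟨g' * u * g'⁻¹, hy⟩ : P) ∈ clsOf p P (eA hM (cz P) e) ⟨g * u * g⁻¹, hx⟩)
  exact hf t ht _ _ htx

theorem wC_eq (h : StabCtx hM B P e f) (hf : IsClassFunction P f) {g u : G}
    {b : MonoidAlgebra (ResK M) G}
    (hg : PairLE p (conjPair g (Subgroup.zpowers u, b)) (P, eA hM (cz P) e)) :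
    wC hM P e f u b = f ⟨g * u * g⁻¹, mem_of_pairLE hg⟩ := by
  have H : ∃ g : G, PairLE p (conjPair g (Subgroup.zpowers u, b)) (P, eA hM (cz P) e) := ⟨g, hg⟩
  rw [wC, dif_pos H, h.stable u g H.choose b hg H.choose_spec, extC, dif_pos]

theorem wC_conj (h : StabCtx hM B P e f) (hf : IsClassFunction P f) (t u : G)
    (b : MonoidAlgebra (ResK M) G) :
    wC hM P e f (t * u * t⁻¹) (conjA t b) = wC hM P e f u b := by
  have key : ∀ g : G, conjPair g (Subgroup.zpowers (t * u * t⁻¹), conjA t b) =
      conjPair (g * t) (Subgroup.zpowers u, b) := fun g => by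
    rw [conjPair_mul, conjPair_eq_zpowers t]
  by_cases hex : ∃ g : G, PairLE p (conjPair g (Subgroup.zpowers u, b)) (P, eA hM (cz P) e)
  · obtain ⟨g, hg⟩ := hex
    have hg' : PairLE p (conjPair (g * t⁻¹) (Subgroup.zpowers (t * u * t⁻¹), conjA t b))
        (P, eA hM (cz P) e) := by
      rwa [key, inv_mul_cancel_right]
    rw [wC_eq h hf hg, wC_eq h hf hg']
    congr 1
    ext
    show g * t⁻¹ * (t * u * t⁻¹) * (g * t⁻¹)⁻¹ = g * u * g⁻¹
    group
  · rw [wC_eq_zero hex, wC_eq_zero]
    rintro ⟨g, hg⟩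
    exact hex ⟨g * t, by rwa [← key]⟩

/-- A character of `P` gives a twist by characters. -/
theorem isTwistC_wC (h : StabCtx hM B P e f) (hf : IsCharacter P f) :
    IsTwistC p (eG hM B) (wC hM P e f) := by
  have hfc := isClassFunction_of_isCharacter hf
  refine ⟨fun g u b => wC_conj h hfc g u b, fun U hU c hc hcov => ?_⟩
  obtain ⟨t, ht⟩ := h.star.exists_conj hU hc hcov
  have hle : U.map (MulAut.conj t).toMonoidHom ≤ P := ht.le
  refine ⟨fun v => f ((((MulAut.conj t).toMonoidHom.comp U.subtype).codRestrict P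
    fun v => hle ⟨v, v.2, rfl⟩) v), CharGalois.isCharacter_comp hf _, fun v b hb => ?_⟩
  rw [wC_eq h hfc ((hb.conj t).trans ht)]
  rfl

/-- The weights agree for the two ideals. -/
theorem wC_transfer {M' : Ideal AlgInt} [M'.IsMaximal] {hM' : IsPModular p M'}
    (h : StabCtx hM B P e f) (h' : StabCtx hM' B P e f) (hf : IsClassFunction P f) {u : G}
    {b : Set (IrrCharacter (cz (Subgroup.zpowers u)))} (hb : IsPBlock M b) :
    wC hM P e f u (eA hM (cz (Subgroup.zpowers u)) b) =
      wC hM' P e f u (eA hM' (cz (Subgroup.zpowers u)) b) := by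
  have hb' := isPBlock_transfer hM hM' hb
  have key : ∀ g : G,
      PairLE p (conjPair g (Subgroup.zpowers u, eA hM (cz (Subgroup.zpowers u)) b))
          (P, eA hM (cz P) e) ↔
        PairLE p (conjPair g (Subgroup.zpowers u, eA hM' (cz (Subgroup.zpowers u)) b))
          (P, eA hM' (cz P) e) := fun g => by
    rw [pairLE_conjPair_iff hM hb h.star.isPBlock, pairLE_conjPair_iff hM' hb' h'.star.isPBlock]
    exact ⟨subpairLE_transfer hM hM', subpairLE_transfer hM' hM⟩
  by_cases hex : ∃ g : G,
      PairLE p (conjPair g (Subgroup.zpowers u, eA hM (cz (Subgroup.zpowers u)) b))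
        (P, eA hM (cz P) e)
  · obtain ⟨g, hg⟩ := hex
    rw [wC_eq h hf hg, wC_eq h' hf ((key g).1 hg)]
  · rw [wC_eq_zero hex, wC_eq_zero fun ⟨g, hg⟩ => hex ⟨g, (key g).2 hg⟩]


/-- The two ideals give the same function. -/
theorem starC_transfer {M' : Ideal AlgInt} [M'.IsMaximal] {hM' : IsPModular p M'}
    (h : StabCtx hM B P e f) (h' : StabCtx hM' B P e f) (hf : IsClassFunction P f)
    {χ : IrrCharacter G} (hχ : χ ∈ B) :
    starC hM B P e f (χ : G → ℂ) = starC hM' B P e f (χ : G → ℂ) := by
  funext g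
  obtain ⟨u, s, hu, hs, rfl⟩ := exists_sec_decomp hM.1 g
  rw [starC_sec h.star.isPBlockB hχ hu hs, starC_sec h'.star.isPBlockB hχ hu hs,
    blockSets_transfer hM hM']
  exact Finset.sum_congr rfl fun b hb => by rw [wC_transfer h h' hf (mem_blockSets.1 hb)]


theorem isClassFunction_starC (h : StabCtx hM B P e f) (hf : IsClassFunction P f)
    {χ : IrrCharacter G} : IsClassFunction G (starC hM B P e f (χ : G → ℂ)) := by
  have := charP_res hM
  intro g t
  obtain ⟨u, s, hu, hs, rfl⟩ := exists_sec_decomp hM.1 g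
  have hs' : ¬ p ∣ orderOf (s : G) := by rwa [Subgroup.orderOf_coe]
  have hc := commute_of_mem_cz s.2
  rw [show t * (u * (s : G)) * t⁻¹ = t * u * t⁻¹ * (t * s * t⁻¹) by group,
    starC_eq _ (show Commute (t * u * t⁻¹) (t * (s : G) * t⁻¹) from
        hc.map (MulAut.conj t).toMonoidHom) (by simpa [orderOf_conj'] using hu)
      (by rwa [orderOf_conj']),
    starC_eq _ hc hu hs']
  have hE := isBlockIdem_eG hM h.star.isPBlockB
  exact twistVal_conj_G (wC_conj h hf) hE.fixed hE.idem (irr_isCharacter χ)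
    (BPStar.isPGroup_zpowers hu) hs' s.2 (Subgroup.mem_zpowers u) t


variable (hM : IsPModular p M)

theorem wC_spec (h : StabCtx hM B P e f) (hf : IsCharacter P f) (u : G)
    (b : MonoidAlgebra (ResK M) G) :
    IsIntegral ℤ (wC hM P e f u b) ∧ wC hM P e f u b ∈ KGV.rootField (Nat.card G) := by
  by_cases hex : ∃ g : G, PairLE p (conjPair g (Subgroup.zpowers u, b)) (P, eA hM (cz P) e)
  · obtain ⟨g, hg⟩ := hex
    rw [wC_eq h (isClassFunction_of_isCharacter hf) hg]
    exact ⟨KGV.char_isIntegral hf _, char_mem_rootField_sub hf _⟩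
  · rw [wC_eq_zero hex]
    exact ⟨isIntegral_zero, zero_mem _⟩

/-- The values on a section through the multiplicities. -/
theorem starC_sec_expand (h : StabCtx hM B P e f) (_hf : IsCharacter P f) {χ : IrrCharacter G} (hχ : χ ∈ B) {u : G}
    (hu : ∃ k : ℕ, orderOf u = p ^ k) {s : cz (Subgroup.zpowers u)} (hs : ¬ p ∣ orderOf s) :
    starC hM B P e f (χ : G → ℂ) (u * (s : G)) =
      ∑ b ∈ blockSets M (cz (Subgroup.zpowers u)), ∑ ξ ∈ Finset.univ.filter (· ∈ b),
        wC hM P e f u (eA hM (cz (Subgroup.zpowers u)) b) * secMult u (χ : G → ℂ) ξ *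
          (ξ : cz (Subgroup.zpowers u) → ℂ) s := by
  rw [starC_sec h.star.isPBlockB hχ hu hs]
  refine Finset.sum_congr rfl fun b _ => ?_
  rw [blockPart_eq_sum, Finset.mul_sum]
  exact Finset.sum_congr rfl fun ξ _ => (mul_assoc _ _ _).symm

theorem starC_mem_rootField (h : StabCtx hM B P e f) (hf : IsCharacter P f) {χ : IrrCharacter G} (hχ : χ ∈ B)
    (g : G) : starC hM B P e f (χ : G → ℂ) g ∈ KGV.rootField (Nat.card G) := by
  obtain ⟨u, s, hu, hs, rfl⟩ := exists_sec_decomp hM.1 g
  rw [starC_sec_expand hM h hf hχ hu hs]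
  exact sum_mem fun b _ => sum_mem fun ξ _ => mul_mem (mul_mem (wC_spec hM h hf u _).2
    (secMult_spec u χ ξ).2) (char_mem_rootField_sub (irr_isCharacter ξ) s)

section Elementary

variable {H : Subgroup G} [Fintype H] (l : H →* ℂˣ)

/-- Inner products with linear characters of nilpotent subgroups. -/
theorem classInner_res_nilpotent (h : StabCtx hM B P e f) (hf : IsCharacter P f) {χ : IrrCharacter G} (hχ : χ ∈ B)
    (hH : Group.IsNilpotent H) :
    MemLocalRing M (classInner (fun x : H => starC hM B P e f (χ : G → ℂ) x)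
        (fun x => (l x : ℂ))) ∧
      IsIntegral ℤ ((p : ℂ) ^ (Nat.card G).factorization p *
        classInner (fun x : H => starC hM B P e f (χ : G → ℂ) x) (fun x => (l x : ℂ))) := by
  have := charP_res hM
  obtain ⟨U, K, hUp, hKp, hcomm, hcompl⟩ := exists_nilpotent_split p hH
  set φ : H → ℂ := fun x => starC hM B P e f (χ : G → ℂ) x with hφ
  -- the sum over the two factors
  have hsum : classInner φ (fun x => (l x : ℂ)) = (Nat.card U : ℂ)⁻¹ * (Nat.card K : ℂ)⁻¹ *
      ∑ k : K, ∑ u : U, conj (l (k : H) : ℂ) * (conj (l (u : H) : ℂ) * φ ((u : H) * k)) := by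
    rw [classInner, ← hcompl.card_mul_card, Nat.cast_mul, mul_inv]
    congr 1
    rw [Finset.sum_comm, ← Fintype.sum_prod_type']
    refine (Fintype.sum_equiv (Equiv.ofBijective (fun x : U × K => (x.1 : H) * x.2) hcompl) _ _
      fun x => ?_).symm
    show _ = φ ((x.1 : H) * x.2) * conj (l ((x.1 : H) * x.2) : ℂ)
    rw [map_mul, Units.val_mul, map_mul]
    ring
  have hord : ∀ k : K, ¬ p ∣ orderOf ((k : H) : G) := fun k hk => hKp (hk.trans (by
    rw [Subgroup.orderOf_coe, Subgroup.orderOf_coe]; exact orderOf_dvd_natCard k))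
  have hordu : ∀ u : U, ∃ j : ℕ, orderOf ((u : H) : G) = p ^ j := fun u => by
    rw [Subgroup.orderOf_coe, Subgroup.orderOf_coe]
    exact IsPGroup.iff_orderOf.1 hUp u
  have hcG : ∀ (u : U) (k : K), Commute ((u : H) : G) ((k : H) : G) := fun u k =>
    congrArg Subtype.val (hcomm u u.2 k k.2).eq
  refine ⟨?_, ?_⟩
  · -- locally at `M`
    have hU' : IsPGroup p (U.map H.subtype) := hUp.map _
    set U' := U.map H.subtype with hU'def
    let ι : U' →* H := Subgroup.inclusion (Subgroup.map_subtype_le U)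
    have hloc : ∀ k : K, ∃ w, MemLocalRing M w ∧
        ∑ u : U, conj (l (u : H) : ℂ) * φ ((u : H) * k) = (Nat.card U : ℂ) * w := by
      intro k
      have hkU : ((k : H) : G) ∈ cz U' := mem_cz.2 fun v hv => by
        obtain ⟨w, hw, rfl⟩ := hv
        exact (hcG ⟨w, hw⟩ k).eq
      have hE := isBlockIdem_eG hM h.star.isPBlockB
      obtain ⟨w, hw, he⟩ := sum_twistVal_mem_char hM (wC hM P e f) (irr_isCharacter χ) hE.fixed hE.idem
        (isTwistC_wC h hf) (hord k) U' hU' hkU ((l.comp ι)⁻¹)
        ⟨fixAlg_anti le_top hE.fixed, fixAlg_anti le_top hE.fixed⟩ hE.idem hE.idem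
      refine ⟨w, hw, ?_⟩
      rw [show (Nat.card U : ℂ) = (Nat.card U' : ℂ) by
        rw [hU'def, Subgroup.card_map_of_injective H.subtype_injective], ← he]
      refine Fintype.sum_equiv (U.equivMapOfInjective H.subtype H.subtype_injective).toEquiv _ _
        fun u => ?_
      have hι : ι (U.equivMapOfInjective H.subtype H.subtype_injective u) = (u : H) :=
        Subtype.ext rfl
      congr 1
      · simp only [MulEquiv.toEquiv_eq_coe, EquivLike.coe_coe, MonoidHom.inv_apply, MonoidHom.comp_apply, hι]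
        rw [← Characters.irr_apply_inv ⟨_, isIrrCharacter_of_hom l⟩]
        simp
      · simp only [hφ, Subgroup.coe_mul]
        exact starC_eq _ (hcG u k) (hordu u) (hord k)
    choose w hw hwe using hloc
    have e1 : classInner φ (fun x => (l x : ℂ)) =
        (Nat.card K : ℂ)⁻¹ * ∑ k : K, conj (l (k : H) : ℂ) * w k := by
      rw [hsum, Finset.mul_sum, Finset.mul_sum]
      refine Finset.sum_congr rfl fun k _ => ?_
      rw [← Finset.mul_sum, hwe]
      have : (Nat.card U : ℂ) ≠ 0 := Nat.cast_ne_zero.2 Nat.card_pos.ne'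
      field_simp
    rw [e1]
    refine (lRing hM).mul_mem (inv_natCast_mem_lRing hM hKp) (Subring.sum_mem _ fun k _ =>
      (lRing hM).mul_mem (isIntegral_mem_lRing hM ?_) (hw k))
    rw [← Characters.irr_apply_inv ⟨_, isIrrCharacter_of_hom l⟩]
    exact KGV.char_isIntegral (isCharacter_of_irr (isIrrCharacter_of_hom l)) _
  · -- away from `p`
    obtain ⟨j, hj⟩ := IsPGroup.iff_card.1 hUp
    have hjle : j ≤ (Nat.card G).factorization p :=
      (Nat.Prime.pow_dvd_iff_le_factorization Fact.out Nat.card_pos.ne').1 (hj ▸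
        ((Subgroup.card_subgroup_dvd_card U).trans (Subgroup.card_subgroup_dvd_card H)))
    have e2 : (p : ℂ) ^ (Nat.card G).factorization p * classInner φ (fun x => (l x : ℂ)) =
        (p : ℂ) ^ ((Nat.card G).factorization p - j) * ∑ u : U, conj (l (u : H) : ℂ) *
          ((Nat.card K : ℂ)⁻¹ * ∑ k : K, φ ((u : H) * k) * conj (l (k : H) : ℂ)) := by
      rw [hsum, hj, Nat.cast_pow]
      conv_lhs => rw [← Nat.sub_add_cancel hjle, pow_add, Finset.sum_comm]
      have : (p : ℂ) ≠ 0 := Nat.cast_ne_zero.2 hM.1.ne_zero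
      simp only [Finset.mul_sum]
      refine Finset.sum_congr rfl fun u _ => Finset.sum_congr rfl fun k _ => ?_
      field_simp
    rw [e2]
    refine ((isIntegral_algebraMap (R := ℤ) (x := (p : ℤ))).pow _).mul
      (IsIntegral.sum _ fun u _ => IsIntegral.mul ?_ ?_)
    · rw [← Characters.irr_apply_inv ⟨_, isIrrCharacter_of_hom l⟩]
      exact KGV.char_isIntegral (isCharacter_of_irr (isIrrCharacter_of_hom l)) _
    set C := cz (Subgroup.zpowers ((u : H) : G)) with hC
    have hK : ∀ k : K, ((k : H) : G) ∈ C := fun k => mem_cz.2 fun v hv => by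
      obtain ⟨i, rfl⟩ := Subgroup.mem_zpowers_iff.1 hv
      exact ((hcG u k).zpow_left i).eq
    let κ : K →* C := (H.subtype.comp K.subtype).codRestrict C hK
    have hl : IsCharacter K (fun k : K => (l (k : H) : ℂ)) :=
      CharGalois.isCharacter_comp (isCharacter_of_irr (isIrrCharacter_of_hom l)) K.subtype
    have e3 : (Nat.card K : ℂ)⁻¹ * ∑ k : K, φ ((u : H) * k) * conj (l (k : H) : ℂ) =
        ∑ b ∈ blockSets M C, ∑ ξ ∈ Finset.univ.filter (· ∈ b),
          wC hM P e f ((u : H) : G) (eA hM C b) * secMult ((u : H) : G) (χ : G → ℂ) ξ *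
            classInner (fun k : K => (ξ : C → ℂ) (κ k)) (fun k : K => (l (k : H) : ℂ)) := by
      have e4 : ∀ k : K, φ ((u : H) * k) = ∑ b ∈ blockSets M C,
          ∑ ξ ∈ Finset.univ.filter (· ∈ b), wC hM P e f ((u : H) : G) (eA hM C b) *
            secMult ((u : H) : G) (χ : G → ℂ) ξ * (ξ : C → ℂ) (κ k) := fun k =>
        starC_sec_expand hM h hf hχ (hordu u) (s := κ k) (by
          rw [← Subgroup.orderOf_coe]; exact hord k)
      simp only [e4, classInner, Finset.mul_sum, Finset.sum_mul]
      rw [Finset.sum_comm]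
      refine Finset.sum_congr rfl fun b _ => ?_
      rw [Finset.sum_comm]
      exact Finset.sum_congr rfl fun ξ _ => Finset.sum_congr rfl fun k _ => by ring
    rw [e3]
    refine IsIntegral.sum _ fun b _ => IsIntegral.sum _ fun ξ _ =>
      ((wC_spec hM h hf _ _).1.mul (secMult_spec _ χ ξ).1).mul ?_
    obtain ⟨n, hn⟩ := classInner_char_nat (CharGalois.isCharacter_comp (irr_isCharacter ξ) κ) hl
    rw [hn]
    exact isIntegral_algebraMap (R := ℤ) (x := (n : ℤ))

end Elementary

/-- The inner products with irreducible characters, at one ideal. -/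
theorem classInner_starC_local (h : StabCtx hM B P e f) (hf : IsCharacter P f) {χ : IrrCharacter G} (hχ : χ ∈ B)
    {ψ : G → ℂ} (hψ : IsCharacter G ψ) :
    MemLocalRing M (classInner (starC hM B P e f (χ : G → ℂ)) ψ) ∧
      IsIntegral ℤ ((p : ℂ) ^ (Nat.card G).factorization p *
        classInner (starC hM B P e f (χ : G → ℂ)) ψ) := by
  set θ := starC hM B P e f (χ : G → ℂ) with hθ
  suffices H : ∀ f ∈ Brauer.brauerSpan G, MemLocalRing M (classInner θ f) ∧
      IsIntegral ℤ ((p : ℂ) ^ (Nat.card G).factorization p * classInner θ f) from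
    H ψ (Brauer.character_mem_brauerSpan hψ)
  intro f hf
  induction hf using AddSubgroup.closure_induction with
  | mem x hx =>
    obtain ⟨E, q, l, hq, hE, rfl⟩ := hx
    rw [Induction.classInner_indFun_right E _ (isClassFunction_starC h (isClassFunction_of_isCharacter hf))]
    exact classInner_res_nilpotent hM l h hf hχ
      (Involutions.isNilpotent_of_isElementary hq hE)
  | zero => simp only [classInner_zero_right, mul_zero]; exact ⟨(lRing hM).zero_mem, isIntegral_zero⟩
  | add a b _ _ ha hb =>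
    rw [classInner_add_right, mul_add]
    exact ⟨(lRing hM).add_mem ha.1 hb.1, ha.2.add hb.2⟩
  | neg a _ ha =>
    rw [classInner_neg_right, mul_neg]
    exact ⟨(lRing hM).neg_mem ha.1, ha.2.neg⟩

/-- The inner products with irreducible characters are algebraic integers. -/
theorem isIntegral_classInner_starC (h : StabCtx hM B P e f) (hf : IsCharacter P f) {χ : IrrCharacter G}
    (hχ : χ ∈ B) (ψ : IrrCharacter G) :
    IsIntegral ℤ (classInner (starC hM B P e f (χ : G → ℂ)) (ψ : G → ℂ)) := by
  refine isIntegral_of_local hM.1 (classInner_starC_local hM h hf hχ (irr_isCharacter ψ)).2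
    fun M' hM' => ?_
  have := hM'.2.1
  rw [starC_transfer h (h.transfer hM') (isClassFunction_of_isCharacter hf) hχ]
  exact (classInner_starC_local hM' (h.transfer hM') hf hχ (irr_isCharacter ψ)).1

end CfsgLib.HomoTwo
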