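import Cfsg.Agent.Lib.HomoTwo.Local
import Cfsg.Agent.Lib.HomoTwo.Bridge
import Cfsg.Agent.Lib.HomoTwo.Chars

/-!
# The coefficients of the characters at the centraliser of an involution

The restriction of a character to the centraliser `C` of an involution `x₀` of the defect group has
a part in the nilpotent block `β` below the maximal pair; it is the product of a fixed member by a
combination `N` of linear characters of the defect group. Induction from `C` is an isometry on the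
functions living over `x₀`, so the columns `χ ↦ N χ x` over `x₀` are orthogonal.
-/

set_option autoImplicit false
set_option linter.unusedSectionVars false
set_option linter.style.haveILetI false

noncomputable section

namespace CfsgLib.HomoTwo

open Cfsg MonoidAlgebra CfsgLib.Blocks CfsgLib.BrauerPairs CfsgLib.BPStar CfsgLib.Characters
open scoped Classical ComplexConjugate

universe u

section Gen

variable {A : Type*} [Group A] [Finite A]

theorem finite_hom : Finite (A →* ℂˣ) :=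
  haveI : Fintype A := Fintype.ofFinite A
  Finite.of_injective (fun f : A →* ℂˣ => (⟨_, isIrrCharacter_of_hom f⟩ : IrrCharacter A))
    fun f g h => by
      ext x
      exact congrFun (congrArg Subtype.val h) x

/-- The linear characters of a finite group as a finite type. -/
scoped instance homFintype : Fintype (A →* ℂˣ) :=
  haveI := finite_hom (A := A)
  Fintype.ofFinite _

end Gen

variable {p : ℕ} [Fact p.Prime] {M : Ideal AlgInt} [M.IsMaximal]
variable {G : Type u} [Group G] [Fintype G]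
variable {B : Set (IrrCharacter G)} {P : Subgroup G}
variable {e : Set (IrrCharacter (Subgroup.centralizer (P : Set G)))}

/-- The parts of a product on a section. -/
theorem blockPart_starC {hM : IsPModular p M} (h : NilBlk.NilCtx hM B P e) (f : P → ℂ)
    {χ : IrrCharacter G} (hχ : χ ∈ B) {u : G} (hu : ∃ k : ℕ, orderOf u = p ^ k)
    {b : Set (IrrCharacter (cz (Subgroup.zpowers u)))} (hb : IsPBlock M b)
    {s : cz (Subgroup.zpowers u)} (hs : ¬ p ∣ orderOf s) :
    blockPart b (secFun u (NilBlk.starC hM B P e f (χ : G → ℂ))) s =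
      NilBlk.wC hM P e f u (eA hM (cz (Subgroup.zpowers u)) b) *
        blockPart b (secFun u (χ : G → ℂ)) s := by
  let a : Set (IrrCharacter (cz (Subgroup.zpowers u))) → ℂ := fun b' => NilBlk.wC hM P e f u (eA hM (cz (Subgroup.zpowers u)) b')
  have hagree : ∀ c : (cz (Subgroup.zpowers u)), ¬ p ∣ orderOf c → secFun u (NilBlk.starC hM B P e f (χ : G → ℂ)) c =
      ∑ b' : {b' // b' ∈ blockSets M (cz (Subgroup.zpowers u))},
        a b'.1 * blockPart b'.1 (secFun u (χ : G → ℂ)) c := fun c hc => by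
    rw [secFun, NilBlk.starC_sec h.star.isPBlockB hχ hu hc]
    exact (Finset.sum_coe_sort _ fun b' => a b' * blockPart b' (secFun u (χ : G → ℂ)) c).symm
  rw [blockPart_congr_regular hM hb hagree hs, blockPart_linear, Finset.sum_eq_single
    (⟨b, mem_blockSets.2 hb⟩ : {b' // b' ∈ blockSets M (cz (Subgroup.zpowers u))})]
  · rw [blockPart_blockPart hM hb hb, if_pos rfl]
  · intro b' _ hne
    rw [blockPart_blockPart hM hb (mem_blockSets.1 b'.2), if_neg fun h' => hne (Subtype.ext h'.symm),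
      mul_zero]
  · exact fun h' => absurd (Finset.mem_univ _) h'

/-- The centraliser of an element of the defect group. -/
abbrev Cx (x₀ : P) : Subgroup G := cz (Subgroup.zpowers (x₀ : G))

/-- An element of the copy of `P` in `C` as an element of `P`. -/
def toP {C : Subgroup G} (x : P.subgroupOf C) : P := ⟨((x : C) : G), x.2⟩

/-- The elements having `x₀` as a power of `2`-power exponent. -/
def Over (x₀ x : P) : Prop := ∃ i : ℕ, x ^ 2 ^ i = x₀

variable [Fact (Nat.Prime 2)]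

/-- The data at an involution of the defect group. -/
structure LocCtx (hM : IsPModular 2 M) (B : Set (IrrCharacter G)) (P : Subgroup G)
    (e : Set (IrrCharacter (Subgroup.centralizer (P : Set G)))) (m : ℕ) (x₀ : P)
    (β : Set (IrrCharacter (Cx x₀)))
    (e' : Set (IrrCharacter (Subgroup.centralizer
      ((P.subgroupOf (Cx x₀) : Subgroup (Cx x₀)) : Set (Cx x₀)))))
    (ψ₀ : IrrCharacter (Cx x₀)) : Prop where
  ctx : AbCtx hM B P e
  homo : IsHomoGroup P m
  sq : x₀ ^ 2 = 1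
  ne : x₀ ≠ 1
  inside : AbCtx hM β (P.subgroupOf (Cx x₀)) e'
  incl : inclA (ResK M) (Cx x₀) (eA hM (cz (P.subgroupOf (Cx x₀))) e') = eA hM (cz P) e
  cover : brMap (ResK M) P (eA hM (Cx x₀) β) * eA hM (cz P) e = eA hM (cz P) e
  mem : ψ₀ ∈ β

variable {hM : IsPModular 2 M} {m : ℕ} {x₀ : P} {β : Set (IrrCharacter (Cx x₀))}
  {e' : Set (IrrCharacter (Subgroup.centralizer
      ((P.subgroupOf (Cx x₀) : Subgroup (Cx x₀)) : Set (Cx x₀))))}
  {ψ₀ : IrrCharacter (Cx x₀)}

variable (hM β e' ψ₀) in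
/-- The product of the fixed member by a function on `P`. -/
def theta (h : P → ℂ) : Cx x₀ → ℂ :=
  NilBlk.starC hM β (P.subgroupOf (Cx x₀)) e' (fun x => h (toP x)) (ψ₀ : Cx x₀ → ℂ)

variable (hM β e' ψ₀) in
/-- The multiplicity of a product in the restriction. -/
def mult (χ : IrrCharacter G) (μ : P →* ℂˣ) : ℕ :=
  Classical.epsilon fun k : ℕ =>
    classInner (fun y : Cx x₀ => (χ : G → ℂ) y) (theta hM β e' ψ₀ fun x => (μ x : ℂ)) = k

variable (hM β e' ψ₀) in
/-- The coefficient of a character at an element of `P`. -/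
def coef (χ : IrrCharacter G) (x : P) : ℂ :=
  ∑ μ : P →* ℂˣ, (mult hM β e' ψ₀ χ μ : ℂ) * (μ x : ℂ)

namespace LocCtx

variable (L : LocCtx hM B P e m x₀ β e' ψ₀)
include L

theorem comm' (a b : P) : a * b = b * a := Subtype.ext (mem_cz.1 (L.ctx.comm b.2) a a.2)

theorem le_Cx : P ≤ Cx x₀ := L.ctx.le_cz_zpowers x₀

theorem central (g : Cx x₀) : (g : G) * x₀ = x₀ * g := (commute_of_mem_cz g.2).eq.symm

theorem toP_bijective : Function.Bijective (toP (P := P) (C := Cx x₀)) :=
  ⟨fun _ _ h => Subtype.ext (Subtype.ext (congrArg (fun x : P => (x : G)) h)),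
    fun x => ⟨⟨⟨x, L.le_Cx x.2⟩, x.2⟩, rfl⟩⟩

theorem sum_toP (F : P → ℂ) : ∑ x : P.subgroupOf (Cx x₀), F (toP x) = ∑ x : P, F x :=
  Fintype.sum_bijective _ L.toP_bijective _ _ fun _ => rfl

theorem card_subgroupOf : Nat.card (P.subgroupOf (Cx x₀)) = Nat.card P :=
  Nat.card_eq_of_bijective _ L.toP_bijective

theorem nil : NilBlk.NilCtx hM β (P.subgroupOf (Cx x₀)) e' := by
  refine nilCtx_of_fix (x := ⟨⟨x₀, L.le_Cx x₀.2⟩, x₀.2⟩) L.inside
    (L.homo.of_equiv (Subgroup.subgroupOfEquivOfLe L.le_Cx)) (fun h => L.ne ?_) fun t _ => ?_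
  · exact Subtype.ext (congrArg (fun z : P.subgroupOf (Cx x₀) => ((z : Cx x₀) : G)) h)
  · refine Subtype.ext ?_
    show (t : G) * x₀ * (t : G)⁻¹ = x₀
    rw [L.central, mul_inv_cancel_right]

theorem invariants_inside :
    blockRank 2 β = 1 ∧ Nat.card β = Nat.card (P.subgroupOf (Cx x₀)) ∧
      ∀ χ ∈ β, blockHeight 2 β (χ : Cx x₀ → ℂ) = 0 :=
  invariants_of_nilCtx L.inside L.nil

theorem aVal (x : P.subgroupOf (Cx x₀)) : NilBlk.aVal L.nil ψ₀ x = 1 :=
  NilBlk.aVal_eq_one L.nil L.mem (L.invariants_inside.2.2 ψ₀ L.mem) x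

theorem isClassFunction_fun (h : P → ℂ) :
    IsClassFunction (P.subgroupOf (Cx x₀)) fun x => h (toP x) := fun a b => by
  have : toP (b * a * b⁻¹) = toP a := by
    refine Subtype.ext ?_
    show ((b : Cx x₀) : G) * ((a : Cx x₀) : G) * ((b : Cx x₀) : G)⁻¹ = _
    have h1 : ((b : Cx x₀) : G) * ((a : Cx x₀) : G) = ((a : Cx x₀) : G) * ((b : Cx x₀) : G) :=
      (mem_cz.1 (L.ctx.comm a.2) _ b.2)
    rw [h1, mul_inv_cancel_right]
    rfl
  simp only [this]

theorem isClassFunction_theta (h : P → ℂ) :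
    IsClassFunction (Cx x₀) (theta hM β e' ψ₀ h) :=
  NilBlk.isClassFunction_starC L.nil (L.isClassFunction_fun h)

theorem classInner_theta (f f' : P → ℂ) :
    classInner (theta hM β e' ψ₀ f) (theta hM β e' ψ₀ f') =
      (Nat.card P : ℂ)⁻¹ * ∑ x : P, f x * conj (f' x) := by
  rw [theta, theta, NilBlk.classInner_starC L.nil (L.isClassFunction_fun f)
    (L.isClassFunction_fun f') L.mem, L.card_subgroupOf, ← L.sum_toP fun x => f x * conj (f' x)]
  simp only [L.aVal, mul_one]

/-- The products by linear characters are the members of `β`. -/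
theorem exists_Phi (μ : P →* ℂˣ) :
    ∃ ψ : IrrCharacter (Cx x₀), ψ ∈ β ∧
      (ψ : Cx x₀ → ℂ) = theta hM β e' ψ₀ fun x => (μ x : ℂ) :=
  NilBlk.exists_starIrr L.nil L.mem (L.invariants_inside.2.2 ψ₀ L.mem)
    (linIrr (μ.comp { toFun := toP, map_one' := rfl, map_mul' := fun _ _ => rfl }))

theorem mult_spec (χ : IrrCharacter G) (μ : P →* ℂˣ) :
    classInner (fun y : Cx x₀ => (χ : G → ℂ) y) (theta hM β e' ψ₀ fun x => (μ x : ℂ)) =
      (mult hM β e' ψ₀ χ μ : ℂ) := by
  obtain ⟨ψ, -, hψ⟩ := L.exists_Phi μ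
  obtain ⟨k, hk⟩ := classInner_char_nat
    (CharGalois.isCharacter_comp (irr_isCharacter χ) (Cx x₀).subtype) (irr_isCharacter ψ)
  exact Classical.epsilon_spec (p := fun k : ℕ => _ = (k : ℂ)) ⟨k, hψ ▸ hk⟩

theorem fourier (h : P → ℂ) :
    h = fun x => ∑ μ : P →* ℂˣ,
      ((Nat.card P : ℂ)⁻¹ * ∑ y, h y * conj (μ y : ℂ)) * (μ x : ℂ) := by
  funext x
  simp only [mul_assoc, ← Finset.mul_sum]
  rw [← Homo949.eq_sum_coef L.comm' h x, inv_mul_cancel_left₀]
  exact Nat.cast_ne_zero.2 Nat.card_pos.ne'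

theorem theta_linear {ι : Type*} (S : Finset ι) (c : ι → ℂ) (F : ι → P → ℂ) :
    theta hM β e' ψ₀ (fun x => ∑ i ∈ S, c i * F i x) =
      ∑ i ∈ S, c i • theta hM β e' ψ₀ (F i) := by
  funext g
  rw [Finset.sum_apply]
  exact NilBlk.starC_linear L.nil S c (fun i x => F i (toP x))
    (fun i => L.isClassFunction_fun (F i)) L.mem g

/-- Restrictions against products. -/
theorem classInner_res_theta (χ : IrrCharacter G) (h : P → ℂ) :
    classInner (fun y : Cx x₀ => (χ : G → ℂ) y) (theta hM β e' ψ₀ h) =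
      (Nat.card P : ℂ)⁻¹ * ∑ x : P, coef hM β e' ψ₀ χ x * conj (h x) := by
  conv_lhs => rw [L.fourier h, L.theta_linear]
  rw [classInner_sum_right]
  simp only [classInner_smul_right, L.mult_spec, coef, map_mul, map_inv₀, map_natCast, map_sum,
    Complex.conj_conj, Finset.mul_sum, Finset.sum_mul]
  rw [Finset.sum_comm]
  exact Finset.sum_congr rfl fun y _ => Finset.sum_congr rfl fun μ _ => by ring

theorem coe_pow_of_over {x : P} {i : ℕ} (hi : x ^ 2 ^ i = x₀) : (x : G) ^ 2 ^ i = x₀ :=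
  congrArg Subtype.val hi

theorem cz_le_of_over {x : P} (hx : Over x₀ x) : cz (Subgroup.zpowers (x : G)) ≤ Cx x₀ := by
  obtain ⟨i, hi⟩ := hx
  refine cz_anti (Subgroup.zpowers_le.2 ?_)
  rw [← L.coe_pow_of_over hi]
  exact Subgroup.pow_mem _ (Subgroup.mem_zpowers _) _

/-- A product of a function living over `x₀` lives on the sections over `x₀`. -/
theorem theta_supp {h : P → ℂ} (hh : ∀ x, h x ≠ 0 → Over x₀ x) {g : Cx x₀}
    (hg : theta hM β e' ψ₀ h g ≠ 0) :
    ∃ u : G, IsPPart 2 (g : G) u ∧ ∃ i : ℕ, u ^ 2 ^ i = x₀ := by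
  obtain ⟨u, s, hu, hs, rfl⟩ := exists_sec_decomp hM.1 g
  refine ⟨(u : G), isPPart_mul ((commute_of_mem_cz s.2).map (Cx x₀).subtype)
    (hu.imp fun k hk => by rw [Subgroup.orderOf_coe, hk])
    (by rwa [Subgroup.orderOf_coe, Subgroup.orderOf_coe]), ?_⟩
  rw [theta, NilBlk.starC_sec L.nil.star.isPBlockB L.mem hu hs] at hg
  obtain ⟨b, -, hb⟩ := Finset.exists_ne_zero_of_sum_ne_zero hg
  have hw : NilBlk.wC hM (P.subgroupOf (Cx x₀)) e' (fun x => h (toP x)) u
      (eA hM (cz (Subgroup.zpowers u)) b) ≠ 0 := left_ne_zero_of_mul hb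
  obtain ⟨t, ht⟩ := not_not.1 (mt NilBlk.wC_eq_zero hw)
  rw [NilBlk.wC_eq L.nil (L.isClassFunction_fun h) ht] at hw
  obtain ⟨i, hi⟩ := hh _ hw
  refine ⟨i, ?_⟩
  have h1 := L.coe_pow_of_over hi
  have h2 : ((t : G) * u * (t : G)⁻¹) ^ 2 ^ i = x₀ := h1
  rw [conj_pow, mul_inv_eq_iff_eq_mul] at h2
  exact mul_left_cancel (h2.trans (L.central t).symm)

/-- On the sections over `x₀` induction changes nothing. -/
theorem indFun_theta {f f' : P → ℂ} (hf : ∀ x, f x ≠ 0 → Over x₀ x)
    (hf' : ∀ x, f' x ≠ 0 → Over x₀ x) {g : Cx x₀} (hg : theta hM β e' ψ₀ f g ≠ 0) :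
    indFun (Cx x₀) (theta hM β e' ψ₀ f') (g : G) = theta hM β e' ψ₀ f' g := by
  obtain ⟨u, hu, i, hi⟩ := L.theta_supp hf hg
  have hx2 : (x₀ : G) ^ 2 = 1 := congrArg Subtype.val L.sq
  have hne : (x₀ : G) ≠ 1 := fun h => L.ne (Subtype.ext h)
  have key : ∀ z : G, extendByZero (Cx x₀) (theta hM β e' ψ₀ f') (z⁻¹ * g * z) ≠ 0 →
      z ∈ Cx x₀ := by
    intro z hz
    by_cases hmem : z⁻¹ * g * z ∈ Cx x₀
    swap
    · exact absurd (Induction.extendByZero_notMem _ _ hmem) hz
    rw [Induction.extendByZero_mem _ _ hmem] at hz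
    obtain ⟨v, hv, j, hj⟩ := L.theta_supp hf' hz
    have hconj : IsPPart 2 (z⁻¹ * (g : G) * z) (z⁻¹ * u * z) := by
      simpa using IsPPart.conj hu z⁻¹
    have hvu : v = z⁻¹ * u * z := IsPPart.unique hM.1 hv hconj
    have hi' : v ^ 2 ^ i = z⁻¹ * x₀ * z := by
      rw [hvu, show z⁻¹ * u * z = z⁻¹ * u * z⁻¹⁻¹ by group, conj_pow, hi, inv_inv]
    have heq : z⁻¹ * (x₀ : G) * z = x₀ := by
      refine IsHomo.pow_eq_unique hi' hj ?_ hx2 (fun h => hne ?_) hne
      · rw [show z⁻¹ * (x₀ : G) * z = z⁻¹ * x₀ * z⁻¹⁻¹ by group, conj_pow, hx2]; group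
      · calc (x₀ : G) = z * (z⁻¹ * x₀ * z) * z⁻¹ := by group
          _ = 1 := by rw [h]; group
    rw [Cx, cz_zpowers, Subgroup.mem_centralizer_singleton_iff]
    calc z * (x₀ : G) = z * (z⁻¹ * x₀ * z) := by rw [heq]
      _ = x₀ * z := by group
  rw [Induction.indFun_apply]
  rw [← Finset.sum_filter_of_ne (p := fun z => z ∈ Cx x₀) fun z _ hz => key z hz]
  rw [Finset.sum_congr rfl (g := fun _ => theta hM β e' ψ₀ f' g) fun z hz => ?_,
    Finset.sum_const, ← Fintype.card_subtype, ← Nat.card_eq_fintype_card, nsmul_eq_mul,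
    inv_mul_cancel_left₀ (Nat.cast_ne_zero.2 Nat.card_pos.ne')]
  have hzC := (Finset.mem_filter.1 hz).2
  rw [show z⁻¹ * (g : G) * z = ((⟨z, hzC⟩⁻¹ * g * ⟨z, hzC⟩ : Cx x₀) : G) by simp,
    Induction.extendByZero_coe]
  have h1 := L.isClassFunction_theta f' g (⟨z, hzC⟩ : Cx x₀)⁻¹
  rwa [inv_inv] at h1

/-- Induction is an isometry on the functions living over `x₀`. -/
theorem classInner_ind {f f' : P → ℂ} (hf : ∀ x, f x ≠ 0 → Over x₀ x)
    (hf' : ∀ x, f' x ≠ 0 → Over x₀ x) :
    classInner (indFun (Cx x₀) (theta hM β e' ψ₀ f)) (indFun (Cx x₀) (theta hM β e' ψ₀ f')) =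
      (Nat.card P : ℂ)⁻¹ * ∑ x : P, f x * conj (f' x) := by
  rw [Induction.classInner_indFun _ _ (Induction.isClassFunction_indFun _ _),
    ← L.classInner_theta, classInner, classInner]
  congr 1
  refine Finset.sum_congr rfl fun g _ => ?_
  by_cases hg : theta hM β e' ψ₀ f g = 0
  · rw [hg, zero_mul, zero_mul]
  · rw [L.indFun_theta hf hf' hg]

/-- The columns over `x₀` are orthogonal. -/
theorem col_orth {x y : P} (hx : Over x₀ x) (hy : Over x₀ y) :
    ∑ χ : IrrCharacter G, coef hM β e' ψ₀ χ x * conj (coef hM β e' ψ₀ χ y) =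
      if x = y then (Nat.card P : ℂ) else 0 := by
  have hP : (Nat.card P : ℂ) ≠ 0 := Nat.cast_ne_zero.2 Nat.card_pos.ne'
  let d : P → P → ℂ := fun a z => if z = a then (Nat.card P : ℂ) else 0
  have hd : ∀ a, Over x₀ a → ∀ z, d a z ≠ 0 → Over x₀ z := fun a ha z hz => by
    by_cases h : z = a
    · exact h ▸ ha
    · exact absurd (if_neg h) hz
  have hev : ∀ a, Over x₀ a → ∀ χ : IrrCharacter G,
      classInner (χ : G → ℂ) (indFun (Cx x₀) (theta hM β e' ψ₀ (d a))) =
        coef hM β e' ψ₀ χ a := fun a ha χ => by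
    rw [Induction.classInner_indFun_right _ _ (irr_isClassFunction χ), L.classInner_res_theta]
    simp only [d, apply_ite conj, map_natCast, map_zero, mul_ite, mul_zero]
    rw [Finset.sum_ite_eq' Finset.univ a, if_pos (Finset.mem_univ a), mul_left_comm,
      inv_mul_cancel₀ hP, mul_one]
  have key := classInner_eq_sum_mul (φ := indFun (Cx x₀) (theta hM β e' ψ₀ (d y)))
    (Induction.isClassFunction_indFun (Cx x₀) (theta hM β e' ψ₀ (d x)))
  rw [L.classInner_ind (hd y hy) (hd x hx)] at key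
  refine Eq.trans ?_ (key.symm.trans ?_)
  · refine Finset.sum_congr rfl fun χ _ => ?_
    rw [← hev x hx χ, ← hev y hy χ, ← classInner_conj_symm, ← classInner_conj_symm, mul_comm]
  · simp only [d, apply_ite conj, map_natCast, map_zero, ite_mul, zero_mul, mul_ite, mul_zero]
    rw [Finset.sum_ite_eq' Finset.univ x, if_pos (Finset.mem_univ x)]
    split_ifs
    · rw [inv_mul_cancel_left₀ hP]
    · rw [mul_zero]

end LocCtx

end CfsgLib.HomoTwo
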