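import Cfsg.Agent.Lib.HomoTwo.Vals

/-!
# The coefficients as values on the sections over the involution
-/

set_option autoImplicit false
set_option linter.unusedSectionVars false
set_option linter.style.haveILetI false

noncomputable section

namespace CfsgLib.HomoTwo

open Cfsg MonoidAlgebra CfsgLib.Blocks CfsgLib.BrauerPairs CfsgLib.BPStar CfsgLib.Characters
open scoped Classical ComplexConjugate

universe u

variable {p : ℕ} [Fact p.Prime] {M : Ideal AlgInt} [M.IsMaximal]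

/-- Only one block covers a nonzero idempotent at a subgroup. -/
theorem eq_of_cover (hM : IsPModular p M) {H : Type u} [Group H] [Fintype H] {R : Subgroup H}
    (hR : IsPGroup p R) {eR : MonoidAlgebra (ResK M) H} (heR : eR ≠ 0)
    {B B' : Set (IrrCharacter H)} (hB : IsPBlock M B) (hB' : IsPBlock M B')
    (h : brMap (ResK M) R (eG hM B) * eR = eR) (h' : brMap (ResK M) R (eG hM B') * eR = eR) :
    B = B' := by
  have := charP_res hM
  by_contra hne
  have hE := isBlockIdem_eG hM hB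
  have hE' := isBlockIdem_eG hM hB'
  apply heR
  calc eR = brMap (ResK M) R (eG hM B) * (brMap (ResK M) R (eG hM B') * eR) := by rw [h', h]
    _ = 0 := by
      rw [← mul_assoc, ← brMap_mul hR (fixAlg_anti le_top hE.fixed) (fixAlg_anti le_top hE'.fixed),
        hE.mul_eq_zero hE' fun heq => hne (eG_inj hM hB hB' heq), map_zero, zero_mul]

variable [Fact (Nat.Prime 2)]
variable {G : Type u} [Group G] [Fintype G]
variable {B : Set (IrrCharacter G)} {P : Subgroup G}
variable {e : Set (IrrCharacter (Subgroup.centralizer (P : Set G)))}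
variable {hM : IsPModular 2 M} {m : ℕ} {x₀ : P} {β : Set (IrrCharacter (Cx x₀))}
  {e' : Set (IrrCharacter (Subgroup.centralizer
      ((P.subgroupOf (Cx x₀) : Subgroup (Cx x₀)) : Set (Cx x₀))))}
  {ψ₀ : IrrCharacter (Cx x₀)}

namespace LocCtx

variable (L : LocCtx hM B P e m x₀ β e' ψ₀)
include L

/-- The element of `P` inside `C`. -/
def inC (x : P) : P.subgroupOf (Cx x₀) := ⟨⟨x, L.le_Cx x.2⟩, x.2⟩

theorem toP_inC (x : P) : toP (L.inC x) = x := rfl

theorem exists_pow_orderOf (x : P) : ∃ k : ℕ, orderOf (x : G) = 2 ^ k := by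
  rw [Subgroup.orderOf_coe]
  exact IsPGroup.iff_orderOf.1 L.ctx.pgroup x

theorem mem_inCz {x : P} (y : Cx x₀) :
    y ∈ cz (Subgroup.zpowers ((L.inC x : Cx x₀))) ↔ (y : G) ∈ cz (Subgroup.zpowers (x : G)) := by
  rw [cz_zpowers, cz_zpowers, Subgroup.mem_centralizer_singleton_iff,
    Subgroup.mem_centralizer_singleton_iff]
  exact ⟨fun h => congrArg Subtype.val h, fun h => Subtype.ext h⟩

/-- The block at `x` seen inside `C`. -/
def blkC {x : P} (hx : Over x₀ x) (b : Set (IrrCharacter (cz (Subgroup.zpowers (x : G))))) :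
    Set (IrrCharacter (cz (Subgroup.zpowers ((L.inC x : Cx x₀))))) :=
  CharCorr.twistIrr (inEquiv (L.cz_le_of_over hx) L.mem_inCz) '' b

theorem isPBlock_blkC {x : P} (hx : Over x₀ x)
    {b : Set (IrrCharacter (cz (Subgroup.zpowers (x : G))))} (hb : IsPBlock M b) :
    IsPBlock M (L.blkC hx b) :=
  isPBlock_twist _ hb

theorem inclA_blkC {x : P} (hx : Over x₀ x)
    (b : Set (IrrCharacter (cz (Subgroup.zpowers (x : G))))) :
    inclA (ResK M) (Cx x₀) (eA hM (cz (Subgroup.zpowers ((L.inC x : Cx x₀)))) (L.blkC hx b)) =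
      eA hM (cz (Subgroup.zpowers (x : G))) b :=
  inclA_eA hM (L.cz_le_of_over hx) L.mem_inCz b

/-- The block at `x` is below the pair inside `C` as well. -/
theorem pairLE_blkC {x : P} (hx : Over x₀ x)
    {b : Set (IrrCharacter (cz (Subgroup.zpowers (x : G))))} (hb : IsPBlock M b)
    (hle : PairLE 2 (Subgroup.zpowers (x : G), eA hM (cz (Subgroup.zpowers (x : G))) b)
      (P, eA hM (cz P) e)) :
    PairLE 2 (Subgroup.zpowers ((L.inC x : Cx x₀)),
        eA hM (cz (Subgroup.zpowers ((L.inC x : Cx x₀)))) (L.blkC hx b))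
      (P.subgroupOf (Cx x₀), eA hM (cz (P.subgroupOf (Cx x₀))) e') := by
  have h1 := (L.ctx.eA_eq_subA_iff x hb).1 (eq_subA hM L.ctx.block L.ctx.pgroup x hle)
  have h2 : brMap (ResK M) (P.subgroupOf (Cx x₀))
      (eA hM (cz (Subgroup.zpowers ((L.inC x : Cx x₀)))) (L.blkC hx b)) *
        eA hM (cz (P.subgroupOf (Cx x₀))) e' = eA hM (cz (P.subgroupOf (Cx x₀))) e' := by
    apply inclA_injective (Cx x₀)
    rw [map_mul, inclA_brMap, Subgroup.map_subgroupOf_eq_of_le L.le_Cx, L.inclA_blkC hx, L.incl]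
    exact h1
  rw [(L.inside.eA_eq_subA_iff (L.inC x) (L.isPBlock_blkC hx hb)).2 h2]
  exact subA_le hM L.inside.block L.inside.pgroup _

theorem mult_eq {χ : IrrCharacter G} {μ : P →* ℂˣ} {ξ : IrrCharacter (Cx x₀)}
    (hξ : (ξ : Cx x₀ → ℂ) = theta hM β e' ψ₀ fun x => (μ x : ℂ)) :
    classInner (fun y : Cx x₀ => (χ : G → ℂ) y) (ξ : Cx x₀ → ℂ) =
      (mult hM β e' ψ₀ χ μ : ℂ) := by
  rw [hξ, L.mult_spec]

/-- The members of `β` are the products by linear characters. -/
theorem exists_mem_eq {ξ : IrrCharacter (Cx x₀)} (hξ : ξ ∈ β) :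
    ∃ μ : P →* ℂˣ, (ξ : Cx x₀ → ℂ) = theta hM β e' ψ₀ fun x => (μ x : ℂ) := by
  obtain ⟨lam, hlam⟩ := NilBlk.exists_eq_starC L.nil L.mem
    (L.invariants_inside.2.2 ψ₀ L.mem) hξ
  have hcomm : ∀ a b : P.subgroupOf (Cx x₀), a * b = b * a := fun a b =>
    Subtype.ext (mem_cz.1 (L.inside.comm b.2) a a.2)
  obtain ⟨f, rfl⟩ := (linIrr_bijective hcomm).surjective lam
  refine ⟨f.comp { toFun := L.inC, map_one' := rfl, map_mul' := fun _ _ => rfl }, ?_⟩
  rw [hlam, theta]
  rfl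

theorem theta_hom_injective {μ ν : P →* ℂˣ}
    (h : theta hM β e' ψ₀ (fun x => (μ x : ℂ)) = theta hM β e' ψ₀ fun x => (ν x : ℂ)) : μ = ν := by
  by_contra hne
  have h1 := L.classInner_theta (fun x => (μ x : ℂ)) (fun x => (μ x : ℂ))
  rw [show classInner (theta hM β e' ψ₀ fun x => (μ x : ℂ)) (theta hM β e' ψ₀ fun x => (μ x : ℂ)) =
    classInner (theta hM β e' ψ₀ fun x => (μ x : ℂ)) (theta hM β e' ψ₀ fun x => (ν x : ℂ)) by
      conv_lhs => arg 2; rw [h]] at h1
  rw [L.classInner_theta, Homo949.sum_hom_orth, Homo949.sum_hom_orth, if_neg hne, if_pos rfl,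
    mul_zero, inv_mul_cancel₀ (Nat.cast_ne_zero.2 Nat.card_pos.ne')] at h1
  exact zero_ne_one h1

/-- The part of a restriction below the pair. -/
theorem blockPart_eq {x : P} (hx : Over x₀ x)
    {b : Set (IrrCharacter (cz (Subgroup.zpowers (x : G))))} (hb : IsPBlock M b)
    (hle : PairLE 2 (Subgroup.zpowers (x : G), eA hM (cz (Subgroup.zpowers (x : G))) b)
      (P, eA hM (cz P) e))
    (χ : IrrCharacter G) {s : cz (Subgroup.zpowers (x : G))} (hs : ¬ 2 ∣ orderOf s) :
    blockPart b (secFun (x : G) (χ : G → ℂ)) s =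
      coef hM β e' ψ₀ χ x * blockPart (L.blkC hx b) (secFun ((L.inC x : Cx x₀)) (ψ₀ : Cx x₀ → ℂ))
        ((inEquiv (L.cz_le_of_over hx) L.mem_inCz).symm s) := by
  set x' : Cx x₀ := ((L.inC x : Cx x₀))
  set b' := L.blkC hx b
  set s' := (inEquiv (L.cz_le_of_over hx) L.mem_inCz).symm s
  have hb' : IsPBlock M b' := L.isPBlock_blkC hx hb
  have hs' : ¬ 2 ∣ orderOf s' := by rwa [MulEquiv.orderOf_eq]
  have hx' : ∃ k : ℕ, orderOf x' = 2 ^ k := by
    obtain ⟨k, hk⟩ := L.exists_pow_orderOf x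
    exact ⟨k, (Subgroup.orderOf_coe x').symm.trans hk⟩
  refine (blockPart_secFun_inside hM (irr_isCharacter χ) hx' hb hb' (L.inclA_blkC hx b) (s' := s') rfl hs).trans ?_
  have hexp : secFun x' (fun y : Cx x₀ => (χ : G → ℂ) y) = fun c => ∑ ξ : IrrCharacter (Cx x₀),
      classInner (fun y : Cx x₀ => (χ : G → ℂ) y) (ξ : Cx x₀ → ℂ) * secFun x' (ξ : Cx x₀ → ℂ) c := by
    funext c
    have h1 := congrFun (classFunction_eq_sum (φ := fun y : Cx x₀ => (χ : G → ℂ) y)
      (isClassFunction_of_isCharacter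
        (CharGalois.isCharacter_comp (irr_isCharacter χ) (Cx x₀).subtype))) (x' * c)
    simp only [Finset.sum_apply, Pi.smul_apply, smul_eq_mul] at h1
    exact h1
  rw [hexp, blockPart_linear]
  have := charP_res hM
  have hle' := L.pairLE_blkC hx hb hle
  have hE := isBlockIdem_eG hM L.inside.isPBlockB
  have hout : ∀ ξ : IrrCharacter (Cx x₀), ξ ∉ β →
      blockPart b' (secFun x' (ξ : Cx x₀ → ℂ)) s' = 0 := by
    intro ξ hξ
    refine blockPart_secFun_eq_zero hM (isPBlock_blockOf (M := M) ξ) (mem_blockOf_self hM ξ) hx' hs'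
      hb' fun hcov => hξ ?_
    have hE' := isBlockIdem_eG hM (isPBlock_blockOf (M := M) ξ)
    rw [eq_of_cover hM L.inside.pgroup L.inside.block.ne_zero L.inside.isPBlockB
      (isPBlock_blockOf ξ) L.inside.cover ((brMap_cover_iff hle' hE'.fixed hE'.idem).1 hcov)]
    exact mem_blockOf_self hM ξ
  choose Φ hΦβ hΦ using L.exists_Phi
  rw [coef, Finset.sum_mul]
  symm
  refine Fintype.sum_of_injective Φ (fun μ ν h => L.theta_hom_injective
    (by rw [← hΦ μ, h, hΦ ν])) _ _ (fun ξ hξ => ?_) fun μ => ?_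
  · by_cases hβ : ξ ∈ β
    · obtain ⟨μ, hμ⟩ := L.exists_mem_eq hβ
      exact absurd ⟨μ, Subtype.ext ((hΦ μ).trans hμ.symm)⟩ hξ
    · rw [hout ξ hβ, mul_zero]
  · rw [L.mult_eq (hΦ μ), hΦ μ, theta, blockPart_starC L.nil _ L.mem hx' hb' hs']
    have hle1 : PairLE 2 (conjPair (1 : Cx x₀) (Subgroup.zpowers x',
        eA hM (cz (Subgroup.zpowers x')) b'))
        (P.subgroupOf (Cx x₀), eA hM (cz (P.subgroupOf (Cx x₀))) e') := by
      rw [conjPair_one]; exact hle'
    rw [NilBlk.wC_eq L.nil (L.isClassFunction_fun fun y => (μ y : ℂ)) hle1,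
      show toP (⟨(1 : Cx x₀) * x' * 1⁻¹, mem_of_pairLE hle1⟩ : P.subgroupOf (Cx x₀)) = x from
        Subtype.ext (by simp [toP, x', inC]), mul_assoc]

theorem exists_blk (x : P) : ∃ b : Set (IrrCharacter (cz (Subgroup.zpowers (x : G)))),
    IsPBlock M b ∧ PairLE 2 (Subgroup.zpowers (x : G), eA hM (cz (Subgroup.zpowers (x : G))) b)
      (P, eA hM (cz P) e) := by
  obtain ⟨f, hf, hfa, -⟩ := L.ctx.exists_local x
  exact ⟨f, hf, hfa ▸ subA_le hM L.ctx.block L.ctx.pgroup x⟩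

/-- The fixed member has norm one on every section. -/
theorem sum_phi {x : P} (hx : Over x₀ x)
    {b : Set (IrrCharacter (cz (Subgroup.zpowers (x : G))))} (hb : IsPBlock M b)
    (hle : PairLE 2 (Subgroup.zpowers (x : G), eA hM (cz (Subgroup.zpowers (x : G))) b)
      (P, eA hM (cz P) e)) :
    (Nat.card P : ℂ) * (Nat.card (cz (Subgroup.zpowers (x : G))) : ℂ)⁻¹ *
      ∑ s ∈ NilBlk.regC 2 ((L.inC x : Cx x₀)),
        blockPart (L.blkC hx b) (secFun ((L.inC x : Cx x₀)) (ψ₀ : Cx x₀ → ℂ)) s *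
          conj (blockPart (L.blkC hx b) (secFun ((L.inC x : Cx x₀)) (ψ₀ : Cx x₀ → ℂ)) s) = 1 := by
  have := charP_res hM
  have h1 := L.aVal (L.inC x)
  rw [NilBlk.aVal_eq] at h1
  have hbx : NilBlk.bx L.nil (L.inC x) = L.blkC hx b :=
    eA_inj hM (NilBlk.isPBlock_bx L.nil _) (L.isPBlock_blkC hx hb)
      (pairLE_unique (hasBlocks hM) (b := (P.subgroupOf (Cx x₀),
        eA hM (cz (P.subgroupOf (Cx x₀))) e')) L.inside.block L.inside.pgroup
        (NilBlk.pairLE_bx L.nil _) (L.pairLE_blkC hx hb hle))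
  have hcent : Subgroup.centralizer ({L.inC x} : Set (P.subgroupOf (Cx x₀))) = ⊤ :=
    eq_top_iff.2 fun g _ => Subgroup.mem_centralizer_singleton_iff.2
      (Subtype.ext (mem_cz.1 (L.inside.comm (L.inC x).2) _ g.2))
  rw [hbx, hcent, Subgroup.card_top, L.card_subgroupOf] at h1
  rwa [← Nat.card_congr (inEquiv (L.cz_le_of_over hx) L.mem_inCz).toEquiv]

/-- The pairing of two characters on the section of `x`. -/
theorem pairing {x : P} (hx : Over x₀ x)
    {b : Set (IrrCharacter (cz (Subgroup.zpowers (x : G))))} (hb : IsPBlock M b)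
    (hle : PairLE 2 (Subgroup.zpowers (x : G), eA hM (cz (Subgroup.zpowers (x : G))) b)
      (P, eA hM (cz P) e))
    (χ ψ : IrrCharacter G) :
    (Nat.card P : ℂ) * (Nat.card (cz (Subgroup.zpowers (x : G))) : ℂ)⁻¹ *
      ∑ s ∈ NilBlk.regC 2 (x : G), blockPart b (secFun (x : G) (χ : G → ℂ)) s *
        conj (blockPart b (secFun (x : G) (ψ : G → ℂ)) s) =
      coef hM β e' ψ₀ χ x * conj (coef hM β e' ψ₀ ψ x) := by
  conv_rhs => rw [← mul_one (_ * _), ← L.sum_phi hx hb hle]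
  rw [Finset.mul_sum, Finset.mul_sum, Finset.mul_sum]
  refine Finset.sum_equiv (inEquiv (L.cz_le_of_over hx) L.mem_inCz).symm.toEquiv (fun s => ?_)
    fun s hs => ?_
  · simp [NilBlk.mem_regC, MulEquiv.orderOf_eq]
  · rw [L.blockPart_eq hx hb hle χ (NilBlk.mem_regC.1 hs),
      L.blockPart_eq hx hb hle ψ (NilBlk.mem_regC.1 hs), map_mul]
    simp only [MulEquiv.toEquiv_eq_coe, EquivLike.coe_coe]
    ring

/-- Outside the block the coefficients vanish over `x₀`. -/
theorem coef_eq_zero {x : P} (hx : Over x₀ x) {χ : IrrCharacter G} (hχ : χ ∉ B) :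
    coef hM β e' ψ₀ χ x = 0 := by
  have := charP_res hM
  obtain ⟨b, hb, hle⟩ := L.exists_blk x
  have h1 := L.pairing hx hb hle χ χ
  rw [Finset.sum_eq_zero fun s hs => ?_, mul_zero] at h1
  · rcases mul_eq_zero.1 h1.symm with h | h
    · exact h
    · simpa using h
  rw [blockPart_secFun_eq_zero hM (isPBlock_blockOf (M := M) χ) (mem_blockOf_self hM χ)
    (L.exists_pow_orderOf x) (NilBlk.mem_regC.1 hs) hb fun hcov => hχ ?_, zero_mul]
  have hE' := isBlockIdem_eG hM (isPBlock_blockOf (M := M) χ)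
  rw [eq_of_cover hM L.ctx.pgroup L.ctx.block.ne_zero L.ctx.isPBlockB
    (isPBlock_blockOf χ) L.ctx.cover ((brMap_cover_iff hle hE'.fixed hE'.idem).1 hcov)]
  exact mem_blockOf_self hM χ

/-- In the block the coefficients over `x₀` do not vanish. -/
theorem coef_ne_zero {x : P} (hx : Over x₀ x) {χ : IrrCharacter G} (hχ : χ ∈ B) :
    coef hM β e' ψ₀ χ x ≠ 0 := by
  obtain ⟨b, hb, hle⟩ := L.exists_blk x
  intro h0
  refine blockPart_central_ne_zero hM L.ctx.hmax hχ x (L.ctx.comm x.2) hb hle ?_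
  rw [L.blockPart_eq hx hb hle χ (by rw [orderOf_one]; exact hM.1.not_dvd_one), h0, zero_mul]

end LocCtx

end CfsgLib.HomoTwo
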